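import Mathlib
import Cfsg.Agent.Lib.Helper27.PslnInst
import Cfsg.Agent.Lib.Helper27.PslOutInst

/-!
# The outer automorphism group of `PSL_n(q)`, `n ≥ 3`
-/

set_option autoImplicit false
set_option linter.unusedSectionVars false

namespace Cfsg.Agent.Lib.Helper27.PslnFinal

open Matrix Cfsg.Agent.Lib.Helper27.PslnMat Cfsg.Agent.Lib.Helper27.PslnAut
  Cfsg.Agent.Lib.Helper27.PslnOut Cfsg.Agent.Lib.Helper27.PslnInst

variable {F : Type*} [Field F] [Fintype F]

/-- **Structure of `Out (PSL_n(q))`**, `n = m + 1 ≥ 3`, `q = p ^ f`. -/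
theorem out_psln {p f : ℕ} [Fact p.Prime] (hf : 1 ≤ f) (hF : Fintype.card F = p ^ f) {m : ℕ}
    (hm : 2 ≤ m) :
    ∃ φ : Cfsg.Out (Matrix.ProjectiveSpecialLinearGroup (Fin (m + 1)) F) →*
        Multiplicative (ZMod f × ZMod 2),
      Function.Surjective φ ∧ IsCyclic φ.ker ∧ Nat.card φ.ker = Nat.gcd (m + 1) (p ^ f - 1) := by
  have hchar : CharP F p := PslOutInst.charP_of_card hF
  obtain ⟨φ, hs, hc, hk⟩ := (okA (F := F) p hm).main
  obtain ⟨hcyc, hcard⟩ := PslOutInst.ringAut_cyclic hF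
  have : NeZero f := ⟨by omega⟩
  have e₁ : RingAut F ≃* Multiplicative (ZMod f) :=
    mulEquivOfCyclicCardEq (by rw [hcard, Nat.card_eq_fintype_card]; simp)
  let e : RingAut F × Multiplicative (ZMod 2) ≃* Multiplicative (ZMod f × ZMod 2) :=
    (MulEquiv.prodCongr e₁ (MulEquiv.refl _)).trans (MulEquiv.prodMultiplicative (G := ZMod f) (H := ZMod 2)).symm
  have hker : (e.toMonoidHom.comp φ).ker = φ.ker := by
    ext x
    simp [MonoidHom.mem_ker]
  refine ⟨e.toMonoidHom.comp φ, e.surjective.comp hs, ?_, ?_⟩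
  · rw [hker]
    exact hc
  · rw [hker, hk, Nat.card_eq_fintype_card, hF]

end Cfsg.Agent.Lib.Helper27.PslnFinal
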