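import Mathlib
import Cfsg.Agent.Lib.Helper27.PslnFinal
import Cfsg.Agent.Lib.Helper6.PSLCard
import Cfsg.Agent.S0249

/-!
# The order of `Aut (PSL_n(q))`
-/

set_option autoImplicit false
set_option linter.unusedSectionVars false

namespace Cfsg.Agent.Lib.Helper27.PslnCard

open Matrix Cfsg.Agent.Lib.Helper27.PslnMat Cfsg.Agent.Lib.Helper27.PslnAut
  Cfsg.Agent.Lib.Helper27.PslnOut Cfsg.Agent.Lib.Helper27.PslnInst

/-- a centreless finite group: `|Aut G| = |Out G| * |G|` -/
theorem card_aut {G : Type*} [Group G] [Finite G] (hc : Subgroup.center G = ⊥) :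
    Nat.card (MulAut G) = Nat.card (Cfsg.Out G) * Nat.card G := by
  have h1 : Nat.card (Cfsg.Inn G) = Nat.card G := by
    have hinj : Function.Injective (MulAut.conj : G →* MulAut G) := by
      rw [← MonoidHom.ker_eq_bot_iff]
      rw [eq_bot_iff]
      intro g hg
      rw [← hc, Subgroup.mem_center_iff]
      intro x
      have := congrArg (fun α : MulAut G => α x) (MonoidHom.mem_ker.1 hg)
      simp only [MulAut.conj_apply, MulAut.one_apply] at this
      calc x * g = (g * x * g⁻¹) * g := by rw [this]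
        _ = g * x := by group
    exact (Nat.card_congr (MonoidHom.ofInjective hinj).toEquiv).symm
  rw [← h1]
  exact Subgroup.card_eq_card_quotient_mul_card_subgroup (Cfsg.Inn G)

/-- a simple group with two non-commuting elements has trivial centre -/
theorem center_eq_bot {G : Type*} [Group G] [IsSimpleGroup G] {a b : G} (hab : a * b ≠ b * a) :
    Subgroup.center G = ⊥ := by
  rcases (inferInstance : (Subgroup.center G).Normal).eq_bot_or_eq_top with h | h
  · exact h
  · exfalso
    have ha : a ∈ Subgroup.center G := h ▸ Subgroup.mem_top a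
    exact hab (Subgroup.mem_center_iff.1 ha b).symm

variable {F : Type*} [Field F] [Fintype F]

/-- the order of `PGL_n(q)` -/
theorem card_pgl {q : ℕ} (hF : Fintype.card F = q) (n : ℕ) (hn : 1 ≤ n) :
    (q - 1) * Nat.card (Matrix.ProjGenLinGroup (Fin n) F) = ∏ i : Fin n, (q ^ n - q ^ (i : ℕ)) := by
  classical
  subst hF
  rw [← Matrix.card_GL_field n]
  have : Nonempty (Fin n) := ⟨⟨0, hn⟩⟩
  have hc : Nat.card (Subgroup.center (GL (Fin n) F)) = Fintype.card F - 1 := by
    rw [Matrix.GeneralLinearGroup.center_eq_range_scalar]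
    have hinj : Function.Injective (Matrix.GeneralLinearGroup.scalar (Fin n) : Fˣ →* GL (Fin n) F) := by
      intro a b hab
      have h1 := congrArg (fun g : GL (Fin n) F => (g : Matrix (Fin n) (Fin n) F) ⟨0, hn⟩ ⟨0, hn⟩) hab
      simp at h1
      exact Units.ext h1
    rw [← Nat.card_congr (MonoidHom.ofInjective hinj).toEquiv, Nat.card_eq_fintype_card,
      Fintype.card_units]
  rw [← hc]
  have h1 : Nat.card (Subgroup.center (GL (Fin n) F)) *
      Nat.card (GL (Fin n) F ⧸ Subgroup.center (GL (Fin n) F)) = Nat.card (GL (Fin n) F) := by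
    rw [← Subgroup.index_eq_card]
    exact Subgroup.card_mul_index _
  exact h1

/-- `|PGL_n(q)| = gcd (n, q - 1) * |PSL_n(q)|` -/
theorem card_pgl_psl {q : ℕ} (hF : Fintype.card F = q) (n : ℕ) (hn : 1 ≤ n) :
    Nat.card (Matrix.ProjGenLinGroup (Fin n) F)
      = Nat.gcd n (q - 1) * Nat.card (Matrix.ProjectiveSpecialLinearGroup (Fin n) F) := by
  have h1 := card_pgl hF n hn
  have h2 := Cfsg.Agent.Lib.Helper6.card_psl hF n hn
  have hq : 0 < q - 1 := by
    have := Fintype.one_lt_card (α := F)
    omega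
  have h3 : (q - 1) * Nat.card (Matrix.ProjGenLinGroup (Fin n) F)
      = (q - 1) * (Nat.gcd n (q - 1) * Nat.card (Matrix.ProjectiveSpecialLinearGroup (Fin n) F)) := by
    rw [h1, ← h2]
    ring
  exact Nat.eq_of_mul_eq_mul_left hq h3

/-- **The order of `Aut (PSL_n(q))`**, `n ≥ 3`. -/
theorem card_aut_psln {p f : ℕ} [Fact p.Prime] (hF : Fintype.card F = p ^ f) {m : ℕ}
    (hm : 2 ≤ m) :
    Nat.card (MulAut (Matrix.ProjectiveSpecialLinearGroup (Fin (m + 1)) F))
      = 2 * f * Nat.card (Matrix.ProjGenLinGroup (Fin (m + 1)) F) := by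
  have hchar : CharP F p := PslOutInst.charP_of_card hF
  have hok := okA (F := F) p hm
  have hsimple : IsSimpleGroup (Matrix.ProjectiveSpecialLinearGroup (Fin (m + 1)) F) :=
    Cfsg.Agent.S0249.result (m + 1) (by omega)
  have hc : Subgroup.center (Matrix.ProjectiveSpecialLinearGroup (Fin (m + 1)) F) = ⊥ :=
    center_eq_bot (hok.ncomm_xy ⟨0, by omega⟩ 1 1 one_ne_zero one_ne_zero)
  rw [card_aut hc, hok.card_out, (PslOutInst.ringAut_cyclic hF).2, card_pgl_psl hF (m + 1) (by omega),
    Nat.card_eq_fintype_card (α := F), hF]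
  ring

/-- **The order of `Aut (PSL_2(q))`**, `q ≥ 4`. -/
theorem card_aut_psl2 {p f : ℕ} [Fact p.Prime] (hF : Fintype.card F = p ^ f) (h4 : 4 ≤ p ^ f) :
    Nat.card (MulAut (Matrix.ProjectiveSpecialLinearGroup (Fin 2) F))
      = f * Nat.card (Matrix.ProjGenLinGroup (Fin 2) F) := by
  have hchar : CharP F p := PslOutInst.charP_of_card hF
  have hok := PslOutInst.ok (F := F) p (by rw [hF]; exact h4)
  have hsimple : IsSimpleGroup (Matrix.ProjectiveSpecialLinearGroup (Fin 2) F) :=
    Matrix.ProjectiveSpecialLinearGroup.rank_two_simple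
      (by rw [Nat.card_eq_fintype_card, hF]; exact h4)
  obtain ⟨s, hs⟩ := hok.big
  have hc : Subgroup.center (Matrix.ProjectiveSpecialLinearGroup (Fin 2) F) = ⊥ := by
    refine center_eq_bot (a := QuotientGroup.mk (PslOutInst.hS s))
      (b := QuotientGroup.mk (Cfsg.Agent.Lib.Helper7.tu 1)) ?_
    intro hcomm
    have h1 := hok.HT s 1
    rw [hcomm] at h1
    have h2 := hok.T_injective (mul_right_cancel h1)
    apply hs
    rw [h2]
    simp
  obtain ⟨φ, hsurj, -, hk⟩ := hok.main
  have h1 := Subgroup.card_mul_index φ.ker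
  rw [Subgroup.index_ker, MonoidHom.range_eq_top.2 hsurj, Subgroup.card_top, hk,
    (PslOutInst.ringAut_cyclic hF).2] at h1
  rw [card_aut hc, ← h1, card_pgl_psl hF 2 (by omega), Nat.card_eq_fintype_card (α := F), hF]
  ring

end Cfsg.Agent.Lib.Helper27.PslnCard
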