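import Mathlib
import Cfsg.Prelude.Def_LieTwisted
import Cfsg.Agent.Lib.Helper24.TwCore
import Cfsg.Agent.Lib.Helper24.TwSig
import Cfsg.Agent.Lib.Helper24.UProdAll

/-!
# The small Ree groups `²G₂` inside `G₂(K)`: the element `n₀` and the core of `B¹`

`n₀ = x_{3a+b}(1) x_{a+b}(1) x_{-3a-b}(-1) x_{-a-b}(-1) x_{3a+b}(1) x_{a+b}(1)` lies in `²G₂`, is
monomial (it is `n_{3a+b} n_{a+b}`, the two roots being orthogonal) and conjugates `x_s(t)` to
`x_{-s}(-t)` for every positive root `s`.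
-/

set_option autoImplicit false

namespace Cfsg.Agent.Lib.Helper27.Ree

open Cfsg.Lie Cfsg.Agent.Lib.Helper24 Matrix

theorem hG2 : chevG2 ∈ chevList := by simp [chevList]

theorem g2_posRoots : chevG2.posRoots = [6, 7, 8, 9, 10, 11] := by decide +kernel

theorem g2_orth : orthChk chevG2 10 8 = true := by decide +kernel

theorem g2_neg : chevG2.neg 6 = 5 ∧ chevG2.neg 7 = 4 ∧ chevG2.neg 8 = 3 ∧ chevG2.neg 9 = 2 ∧
    chevG2.neg 10 = 1 ∧ chevG2.neg 11 = 0 := by decide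

theorem g2_pos : chevG2.IsPosRoot 6 ∧ chevG2.IsPosRoot 7 ∧ chevG2.IsPosRoot 8 ∧
    chevG2.IsPosRoot 9 ∧ chevG2.IsPosRoot 10 ∧ chevG2.IsPosRoot 11 := by decide +kernel

theorem g2_negr : chevG2.IsNegRoot 5 ∧ chevG2.IsNegRoot 4 ∧ chevG2.IsNegRoot 3 ∧
    chevG2.IsNegRoot 2 ∧ chevG2.IsNegRoot 1 ∧ chevG2.IsNegRoot 0 := by decide +kernel

theorem g2_pos_iff (r : ℕ) : chevG2.IsPosRoot r ↔ r = 6 ∨ r = 7 ∨ r = 8 ∨ r = 9 ∨ r = 10 ∨ r = 11 := by
  constructor
  · intro h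
    have h12 : r < 12 := h.1
    have key : ∀ r < 12, chevG2.IsPosRoot r → r = 6 ∨ r = 7 ∨ r = 8 ∨ r = 9 ∨ r = 10 ∨ r = 11 := by
      decide +kernel
    exact key r h12 h
  · rintro (rfl | rfl | rfl | rfl | rfl | rfl)
    · exact g2_pos.1
    · exact g2_pos.2.1
    · exact g2_pos.2.2.1
    · exact g2_pos.2.2.2.1
    · exact g2_pos.2.2.2.2.1
    · exact g2_pos.2.2.2.2.2

/-- the symbolic word of `n₀` -/
def n0s : List (ℕ × ℤ × Mono) :=
  [(10, 1, (0, 0)), (8, 1, (0, 0)), (1, -1, (0, 0)), (3, -1, (0, 0)), (10, 1, (0, 0)),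
    (8, 1, (0, 0))]

theorem n0_chk6 : wEqChk chevG2 (n0s ++ [(6, 1, (0, 1))]) ([(5, -1, (0, 1))] ++ n0s) = true := by
  decide +kernel
theorem n0_chk7 : wEqChk chevG2 (n0s ++ [(7, 1, (0, 1))]) ([(4, -1, (0, 1))] ++ n0s) = true := by
  decide +kernel
theorem n0_chk8 : wEqChk chevG2 (n0s ++ [(8, 1, (0, 1))]) ([(3, -1, (0, 1))] ++ n0s) = true := by
  decide +kernel
theorem n0_chk9 : wEqChk chevG2 (n0s ++ [(9, 1, (0, 1))]) ([(2, -1, (0, 1))] ++ n0s) = true := by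
  decide +kernel
theorem n0_chk10 : wEqChk chevG2 (n0s ++ [(10, 1, (0, 1))]) ([(1, -1, (0, 1))] ++ n0s) = true := by
  decide +kernel
theorem n0_chk11 : wEqChk chevG2 (n0s ++ [(11, 1, (0, 1))]) ([(0, -1, (0, 1))] ++ n0s) = true := by
  decide +kernel

variable {K : Type*} [Field K]

/-- the word of `n₀` -/
def n0w (K : Type*) [Field K] : List (ℕ × K) :=
  [(10, 1), (8, 1), (1, -1), (3, -1), (10, 1), (8, 1)]

/-- the element `n₀` -/
noncomputable def n0 (K : Type*) [Field K] : GL chevG2.Idx K := wGL chevG2 hG2 (n0w K)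

theorem n0_conj_aux (s s' : ℕ)
    (h : wEqChk chevG2 (n0s ++ [(s, 1, (0, 1))]) ([(s', -1, (0, 1))] ++ n0s) = true) (t : K) :
    n0 K * xGL chevG2 hG2 s t = xGL chevG2 hG2 s' (-t) * n0 K := by
  have key := wEq_sound (F := K) chevG2 (preChk_of_mem chevG2 hG2) _ _ h 1 t one_ne_zero
  apply Units.ext
  rw [Units.val_mul, Units.val_mul, xGL_val, xGL_val]
  unfold n0
  rw [wGL_val]
  simp only [n0s, wEval, List.map_cons, List.map_nil, List.cons_append, List.nil_append, evalM,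
    wmat_cons, wmat_nil, Matrix.mul_one, Int.cast_one, Int.cast_neg, one_mul, zpow_zero,
    pow_zero, pow_one, mul_one, neg_mul, Matrix.mul_assoc] at key
  simp only [n0w, wmat_cons, wmat_nil, Matrix.mul_one, Matrix.mul_assoc]
  exact key

theorem n0_conj (s : ℕ) (hs : chevG2.IsPosRoot s) (t : K) :
    n0 K * xGL chevG2 hG2 s t * (n0 K)⁻¹ = xGL chevG2 hG2 (chevG2.neg s) (-t) := by
  rw [mul_inv_eq_iff_eq_mul]
  rcases (g2_pos_iff s).1 hs with rfl | rfl | rfl | rfl | rfl | rfl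
  · rw [g2_neg.1]; exact n0_conj_aux 6 5 n0_chk6 t
  · rw [g2_neg.2.1]; exact n0_conj_aux 7 4 n0_chk7 t
  · rw [g2_neg.2.2.1]; exact n0_conj_aux 8 3 n0_chk8 t
  · rw [g2_neg.2.2.2.1]; exact n0_conj_aux 9 2 n0_chk9 t
  · rw [g2_neg.2.2.2.2.1]; exact n0_conj_aux 10 1 n0_chk10 t
  · rw [g2_neg.2.2.2.2.2]; exact n0_conj_aux 11 0 n0_chk11 t

/-- `n₀` conjugates `U` into `V` -/
theorem n0_conj_pos :
    (chevG2.posUnipotent K).map (MulAut.conj (n0 K)).toMonoidHom ≤ chevG2.negUnipotent K := by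
  unfold ChevalleyDatum.posUnipotent ChevalleyDatum.negUnipotent
  rw [MonoidHom.map_closure, Subgroup.closure_le]
  rintro _ ⟨g₀, ⟨r, t, hr, hg₀⟩, rfl⟩
  apply Subgroup.subset_closure
  have e : g₀ = xGL chevG2 hG2 r t := Units.ext (by rw [hg₀, xGL_val])
  refine ⟨chevG2.neg r, -t, ?_, ?_⟩
  · rcases (g2_pos_iff r).1 hr with rfl | rfl | rfl | rfl | rfl | rfl
    · rw [g2_neg.1]; exact g2_negr.1
    · rw [g2_neg.2.1]; exact g2_negr.2.1
    · rw [g2_neg.2.2.1]; exact g2_negr.2.2.1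
    · rw [g2_neg.2.2.2.1]; exact g2_negr.2.2.2.1
    · rw [g2_neg.2.2.2.2.1]; exact g2_negr.2.2.2.2.1
    · rw [g2_neg.2.2.2.2.2]; exact g2_negr.2.2.2.2.2
  · show ((n0 K * g₀ * (n0 K)⁻¹ : GL chevG2.Idx K) : Matrix chevG2.Idx chevG2.Idx K) = _
    rw [e, n0_conj r hr t, xGL_val]


/-! ### the generating words -/

theorem g2_negIdx : chevG2.negIdx.getD 7 0 = 4 ∧ chevG2.negIdx.getD 6 0 = 5 ∧
    chevG2.negIdx.getD 8 0 = 3 ∧ chevG2.negIdx.getD 9 0 = 2 ∧ chevG2.negIdx.getD 10 0 = 1 ∧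
    chevG2.negIdx.getD 11 0 = 0 := by decide +kernel

theorem g2_c1 : commuteChk chevG2 10 8 = true := by decide +kernel
theorem g2_c2 : commuteChk chevG2 10 3 = true := by decide +kernel
theorem g2_c3 : commuteChk chevG2 1 8 = true := by decide +kernel
theorem g2_c4 : commuteChk chevG2 1 3 = true := by decide +kernel

theorem g2_lt : 6 < chevG2.nroots ∧ 7 < chevG2.nroots ∧ 8 < chevG2.nroots ∧ 9 < chevG2.nroots ∧
    10 < chevG2.nroots ∧ 11 < chevG2.nroots := by decide +kernel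

theorem g2_simple : chevG2.simple 0 = 7 ∧ chevG2.simple 1 = 6 := by decide +kernel

theorem g2_rank : chevG2.rank = 2 := by decide +kernel

theorem reeU_val (e : ℕ) (t u v : K) :
    wGL chevG2 hG2 (reeWordU e t u v) =
      xGL chevG2 hG2 7 (t ^ e) * (xGL chevG2 hG2 6 t * (xGL chevG2 hG2 8 (t ^ (e + 1) + u ^ e) *
        (xGL chevG2 hG2 9 (t ^ (2 * e + 1) + v ^ e) * (xGL chevG2 hG2 10 u *
          xGL chevG2 hG2 11 v)))) := by
  simp only [reeWordU, g2a, g2b, g2ab, g2aab, g2aaab, g2aaabb, wGL_cons, wGL_nil, mul_one]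

theorem reeV_val (e : ℕ) (t u v : K) :
    wGL chevG2 hG2 (reeWordV e t u v) =
      xGL chevG2 hG2 4 (-(t ^ e)) * (xGL chevG2 hG2 5 (-t) *
        (xGL chevG2 hG2 3 (-(t ^ (e + 1) + u ^ e)) *
        (xGL chevG2 hG2 2 (-(t ^ (2 * e + 1) + v ^ e)) * (xGL chevG2 hG2 1 (-u) *
          xGL chevG2 hG2 0 (-v))))) := by
  simp only [reeWordV, ChevalleyDatum.negWord, reeWordU, g2a, g2b, g2ab, g2aab, g2aaab, g2aaabb,
    List.map_cons, List.map_nil, wGL_cons, wGL_nil, mul_one, g2_negIdx.1, g2_negIdx.2.1,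
    g2_negIdx.2.2.1, g2_negIdx.2.2.2.1, g2_negIdx.2.2.2.2.1, g2_negIdx.2.2.2.2.2]

theorem reeU_mem (e : ℕ) (t u v : K) : wGL chevG2 hG2 (reeWordU e t u v) ∈ twistedG2 K e :=
  wGL_mem_gen chevG2 hG2 (g2Words K e) _ ⟨t, u, v, Or.inl rfl⟩

theorem reeV_mem (e : ℕ) (t u v : K) : wGL chevG2 hG2 (reeWordV e t u v) ∈ twistedG2 K e :=
  wGL_mem_gen chevG2 hG2 (g2Words K e) _ ⟨t, u, v, Or.inr rfl⟩

theorem reeU_010 (e : ℕ) (he : e ≠ 0) :
    wGL chevG2 hG2 (reeWordU e (0 : K) 1 0) = xGL chevG2 hG2 8 1 * xGL chevG2 hG2 10 1 := by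
  rw [reeU_val]
  simp only [zero_pow he, zero_pow (Nat.succ_ne_zero _), one_pow, zero_add, xGL_zero, one_mul,
    mul_one, add_zero]

theorem reeU_001 (e : ℕ) (he : e ≠ 0) :
    wGL chevG2 hG2 (reeWordU e (0 : K) 0 1) = xGL chevG2 hG2 9 1 * xGL chevG2 hG2 11 1 := by
  rw [reeU_val]
  simp only [zero_pow he, zero_pow (Nat.succ_ne_zero _), one_pow, zero_add, xGL_zero, one_mul,
    mul_one, add_zero]

theorem reeV_010 (e : ℕ) (he : e ≠ 0) :
    wGL chevG2 hG2 (reeWordV e (0 : K) 1 0) = xGL chevG2 hG2 3 (-1) * xGL chevG2 hG2 1 (-1) := by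
  rw [reeV_val]
  simp only [zero_pow he, zero_pow (Nat.succ_ne_zero _), one_pow, zero_add, xGL_zero, one_mul,
    mul_one, add_zero, neg_zero]

theorem rearr4 {G : Type*} [Group G] (a b c d : G) (h1 : Commute a b) (h2 : Commute c d) :
    a * (b * (c * (d * (a * b)))) = b * a * (d * c * (b * a)) := by
  calc a * (b * (c * (d * (a * b)))) = (a * b) * ((c * d) * (a * b)) := by simp only [mul_assoc]
    _ = (b * a) * ((d * c) * (b * a)) := by rw [h1.eq, h2.eq]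

theorem n0_eq : n0 K = xGL chevG2 hG2 8 1 * xGL chevG2 hG2 10 1 *
    (xGL chevG2 hG2 3 (-1) * xGL chevG2 hG2 1 (-1) *
      (xGL chevG2 hG2 8 1 * xGL chevG2 hG2 10 1)) := by
  have e : n0 K = xGL chevG2 hG2 10 1 * (xGL chevG2 hG2 8 1 * (xGL chevG2 hG2 1 (-1) *
      (xGL chevG2 hG2 3 (-1) * (xGL chevG2 hG2 10 1 * xGL chevG2 hG2 8 1)))) := by
    unfold n0 n0w
    simp only [wGL_cons, wGL_nil, mul_one]
  rw [e]
  exact rearr4 (xGL chevG2 hG2 10 (1 : K)) (xGL chevG2 hG2 8 1) (xGL chevG2 hG2 1 (-1))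
    (xGL chevG2 hG2 3 (-1)) (commute_of_chk chevG2 hG2 10 8 g2_c1 (1 : K) 1)
    (commute_of_chk chevG2 hG2 1 3 g2_c4 (-1 : K) (-1))

theorem n0_mem (e : ℕ) (he : e ≠ 0) : n0 K ∈ twistedG2 K e := by
  have hU := reeU_mem (K := K) e 0 1 0
  have hV := reeV_mem (K := K) e 0 1 0
  rw [reeU_010 e he] at hU
  rw [reeV_010 e he] at hV
  rw [n0_eq]
  exact Subgroup.mul_mem _ hU (Subgroup.mul_mem _ hV hU)

theorem rearr6 {G : Type*} [Group G] (a b c d : G) (h1 : Commute b c) (h2 : Commute d a)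
    (h3 : Commute b a) :
    a * (b * (c * (d * (a * b)))) = (a * (c * a)) * (b * (d * b)) := by
  calc a * (b * (c * (d * (a * b)))) = a * ((b * c) * ((d * a) * b)) := by simp only [mul_assoc]
    _ = a * ((c * b) * ((a * d) * b)) := by rw [h1.eq, h2.eq]
    _ = a * (c * ((b * a) * (d * b))) := by simp only [mul_assoc]
    _ = a * (c * ((a * b) * (d * b))) := by rw [h3.eq]
    _ = _ := by simp only [mul_assoc]

theorem n0_eq_n : n0 K = nGL chevG2 hG2 10 * nGL chevG2 hG2 8 := by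
  have e : n0 K = xGL chevG2 hG2 10 1 * (xGL chevG2 hG2 8 1 * (xGL chevG2 hG2 1 (-1) *
      (xGL chevG2 hG2 3 (-1) * (xGL chevG2 hG2 10 1 * xGL chevG2 hG2 8 1)))) := by
    unfold n0 n0w
    simp only [wGL_cons, wGL_nil, mul_one]
  rw [e]
  unfold nGL
  rw [g2_neg.2.2.2.2.1, g2_neg.2.2.1]
  exact rearr6 (xGL chevG2 hG2 10 (1 : K)) (xGL chevG2 hG2 8 1) (xGL chevG2 hG2 1 (-1))
    (xGL chevG2 hG2 3 (-1)) (commute_of_chk chevG2 hG2 1 8 g2_c3 (-1 : K) 1).symm
    (commute_of_chk chevG2 hG2 10 3 g2_c2 (1 : K) (-1)).symm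
    (commute_of_chk chevG2 hG2 10 8 g2_c1 (1 : K) 1).symm

theorem n0_mono : n0 K ∈ chevG2.monomialSubgroup K := by
  rw [n0_eq_n]
  exact Subgroup.mul_mem _ (nGL_mem_monomial chevG2 hG2 10 g2_lt.2.2.2.2.1)
    (nGL_mem_monomial chevG2 hG2 8 g2_lt.2.2.1)

/-! ### uniqueness of the normal form in `U` -/

/-- the normal form word of `U` -/
def u6 (a b c d e f : K) : List (ℕ × K) :=
  [(6, a), (7, b), (8, c), (9, d), (10, e), (11, f)]

/-- the parameter function of a normal form word -/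
def u6fun (a b c d e f : K) : ℕ → K := fun r =>
  if r = 6 then a else if r = 7 then b else if r = 8 then c else if r = 9 then d
  else if r = 10 then e else if r = 11 then f else 0

theorem u6fun_map (a b c d e f : K) :
    (chevG2.posRoots.map fun r => (r, u6fun a b c d e f r)) = u6 a b c d e f := by
  rw [g2_posRoots]
  simp [u6fun, u6]

theorem u6fun_zero (a b c d e f : K) (r : ℕ) (hr : ¬ chevG2.IsPosRoot r) :
    u6fun a b c d e f r = 0 := by
  rw [g2_pos_iff] at hr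
  simp only [not_or] at hr
  simp [u6fun, hr.1, hr.2.1, hr.2.2.1, hr.2.2.2.1, hr.2.2.2.2.1, hr.2.2.2.2.2]

theorem u6_mem_pos (a b c d e f : K) : wGL chevG2 hG2 (u6 a b c d e f) ∈ chevG2.posUnipotent K := by
  apply wGL_mem_pos
  intro p hp
  simp only [u6, List.mem_cons, List.not_mem_nil, or_false] at hp
  rcases hp with rfl | rfl | rfl | rfl | rfl | rfl
  · exact g2_pos.1
  · exact g2_pos.2.1
  · exact g2_pos.2.2.1
  · exact g2_pos.2.2.2.1
  · exact g2_pos.2.2.2.2.1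
  · exact g2_pos.2.2.2.2.2

theorem u6_inj (a b c d e f a' b' c' d' e' f' : K)
    (h : wGL chevG2 hG2 (u6 a b c d e f) = wGL chevG2 hG2 (u6 a' b' c' d' e' f')) :
    a = a' ∧ b = b' ∧ c = c' ∧ d = d' ∧ e = e' ∧ f = f' := by
  have hu := (unique_product_all (F := K) chevG2 hG2).1 _ (u6_mem_pos a b c d e f)
  have h1 : (∀ r, ¬ chevG2.IsPosRoot r → u6fun a b c d e f r = 0) ∧
      ((wGL chevG2 hG2 (u6 a b c d e f) : GL chevG2.Idx K) : Matrix chevG2.Idx chevG2.Idx K) =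
        chevG2.wordMat K (chevG2.posRoots.map fun r => (r, u6fun a b c d e f r)) :=
    ⟨u6fun_zero a b c d e f, by rw [u6fun_map, wGL_val]⟩
  have h2 : (∀ r, ¬ chevG2.IsPosRoot r → u6fun a' b' c' d' e' f' r = 0) ∧
      ((wGL chevG2 hG2 (u6 a b c d e f) : GL chevG2.Idx K) : Matrix chevG2.Idx chevG2.Idx K) =
        chevG2.wordMat K (chevG2.posRoots.map fun r => (r, u6fun a' b' c' d' e' f' r)) :=
    ⟨u6fun_zero a' b' c' d' e' f', by rw [u6fun_map, h, wGL_val]⟩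
  have e := hu.unique h1 h2
  refine ⟨?_, ?_, ?_, ?_, ?_, ?_⟩
  · simpa [u6fun] using congrFun e 6
  · simpa [u6fun] using congrFun e 7
  · simpa [u6fun] using congrFun e 8
  · simpa [u6fun] using congrFun e 9
  · simpa [u6fun] using congrFun e 10
  · simpa [u6fun] using congrFun e 11

theorem u6_val (a b c d e f : K) :
    wGL chevG2 hG2 (u6 a b c d e f) = xGL chevG2 hG2 6 a * (xGL chevG2 hG2 7 b *
      (xGL chevG2 hG2 8 c * (xGL chevG2 hG2 9 d * (xGL chevG2 hG2 10 e * xGL chevG2 hG2 11 f)))) := by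
  simp only [u6, wGL_cons, wGL_nil, mul_one]

/-! ### the centraliser of `U¹` in `H` -/

theorem g2_cent_a : ((9 : ℕ), (1 : ℕ), (-2 : ℤ)) ∈ cent chevG2 7 8 := by decide +kernel
theorem g2_cent_b : ((8 : ℕ), (1 : ℕ), (-1 : ℤ)) ∈ cent chevG2 7 6 := by decide +kernel

/-- No non-trivial element of `H` centralises `²G₂ ∩ U`. -/
theorem g2_central (e : ℕ) (he : e ≠ 0) (x : GL chevG2.Idx K)
    (hxH : x ∈ chevG2.diagonalSubgroup K)
    (hcomm : ∀ g ∈ twistedG2 K e, g ∈ chevG2.posUnipotent K → x * g = g * x) : x = 1 := by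
  obtain ⟨d, hd, hx⟩ := diagonalSubgroup_le_gradedTorus chevG2 hG2 hxH
  have hA : d 8 = 1 ∧ d 10 = 1 := by
    have hm : wGL chevG2 hG2 [(8, (1 : K)), (10, 1)] ∈ twistedG2 K e := by
      have := reeU_mem (K := K) e 0 1 0
      rw [reeU_010 e he] at this
      simpa only [wGL_cons, wGL_nil, mul_one] using this
    have hp : wGL chevG2 hG2 [(8, (1 : K)), (10, 1)] ∈ chevG2.posUnipotent K := by
      apply wGL_mem_pos
      intro p hp
      simp only [List.mem_cons, List.not_mem_nil, or_false] at hp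
      rcases hp with rfl | rfl
      · exact g2_pos.2.2.1
      · exact g2_pos.2.2.2.2.1
    have e1 := wGL_scaled_of_commute chevG2 hG2 x d hd hx [(8, (1 : K)), (10, 1)]
      (by
        intro p hp
        simp only [List.mem_cons, List.not_mem_nil, or_false] at hp
        rcases hp with rfl | rfl
        · exact g2_lt.2.2.1
        · exact g2_lt.2.2.2.2.1)
      (hcomm _ hm hp)
    have e2 : wGL chevG2 hG2 (u6 0 0 (d 8) 0 (d 10) 0) = wGL chevG2 hG2 (u6 (0 : K) 0 1 0 1 0) := by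
      rw [u6_val, u6_val]
      simp only [List.map_cons, List.map_nil, wGL_cons, wGL_nil, mul_one] at e1
      simp only [xGL_zero, one_mul, mul_one]
      exact e1
    have := u6_inj _ _ _ _ _ _ _ _ _ _ _ _ e2
    exact ⟨this.2.2.1, this.2.2.2.2.1⟩
  have hB : d 9 = 1 ∧ d 11 = 1 := by
    have hm : wGL chevG2 hG2 [(9, (1 : K)), (11, 1)] ∈ twistedG2 K e := by
      have := reeU_mem (K := K) e 0 0 1
      rw [reeU_001 e he] at this
      simpa only [wGL_cons, wGL_nil, mul_one] using this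
    have hp : wGL chevG2 hG2 [(9, (1 : K)), (11, 1)] ∈ chevG2.posUnipotent K := by
      apply wGL_mem_pos
      intro p hp
      simp only [List.mem_cons, List.not_mem_nil, or_false] at hp
      rcases hp with rfl | rfl
      · exact g2_pos.2.2.2.1
      · exact g2_pos.2.2.2.2.2
    have e1 := wGL_scaled_of_commute chevG2 hG2 x d hd hx [(9, (1 : K)), (11, 1)]
      (by
        intro p hp
        simp only [List.mem_cons, List.not_mem_nil, or_false] at hp
        rcases hp with rfl | rfl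
        · exact g2_lt.2.2.2.1
        · exact g2_lt.2.2.2.2.2)
      (hcomm _ hm hp)
    have e2 : wGL chevG2 hG2 (u6 0 0 0 (d 9) 0 (d 11)) = wGL chevG2 hG2 (u6 (0 : K) 0 0 1 0 1) := by
      rw [u6_val, u6_val]
      simp only [List.map_cons, List.map_nil, wGL_cons, wGL_nil, mul_one] at e1
      simp only [xGL_zero, one_mul, mul_one]
      exact e1
    have := u6_inj _ _ _ _ _ _ _ _ _ _ _ _ e2
    exact ⟨this.2.2.2.1, this.2.2.2.2.2⟩
  have h7 : d 7 = 1 := by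
    have := hd.chain 7 g2_lt.2.1 8 _ g2_cent_a
    simp only [hA.1, hB.1, one_mul, pow_one] at this
    exact this.symm
  have h6 : d 6 = 1 := by
    have := hd.chain 7 g2_lt.2.1 6 _ g2_cent_b
    simp only [hA.1, h7, one_pow, mul_one] at this
    exact this.symm
  apply torus_eq_one_of_simple chevG2 hG2 x d hd hx
  intro i hi
  rw [g2_rank] at hi
  interval_cases i
  · rw [g2_simple.1]; exact h7
  · rw [g2_simple.2]; exact h6

/-- The normal core of `B¹` in `²G₂` is trivial. -/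
theorem twistedG2_core (e : ℕ) (he : e ≠ 0) :
    ((chevG2.borelSubgroup K ⊓ twistedG2 K e).subgroupOf (twistedG2 K e)).normalCore = ⊥ :=
  core_trivial_of chevG2 hG2 (twistedG2 K e) (n0 K) (n0_mem e he) n0_mono n0_conj_pos
    (g2_central e he)

end Cfsg.Agent.Lib.Helper27.Ree
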