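import Mathlib
import Cfsg.Agent.Lib.Helper27.ReeCore
import Cfsg.Agent.Lib.Helper24.CommFAll
import Cfsg.Agent.Lib.Helper24.GrG2
import Cfsg.Agent.Lib.Helper24.TwSigD4
import Cfsg.Agent.S1080

/-!
# The small Ree groups `²G₂`: the twisting automorphism `σ` and its fixed points in `U` and `H`

`σ` is the exceptional graph automorphism of `G₂(K)` (characteristic 3) composed with the field
automorphism `t ↦ t^e`, so `σ (x_r(t)) = x_{ρ r}(t^{λ(r) e})`.  The generators of `²G₂` are fixed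
by `σ`; from this we get the normal form of `U¹` and the character of the elements of `H¹`.
-/

set_option autoImplicit false

namespace Cfsg.Agent.Lib.Helper27.Ree

open Cfsg.Lie Cfsg.Agent.Lib.Helper24 Matrix

variable {K : Type*} [Field K]

local notation "X" => xGL chevG2 hG2

/-! ### commutation in characteristic 3 -/

theorem g2_ct76 : chevG2.commTerms 7 6 = [(8, -1, 1, 1), (9, 1, 2, 1), (10, 1, 3, 1), (11, 1, 3, 2)] := by
  decide +kernel

theorem g2_ct89 : chevG2.commTerms 8 9 = [(11, 3, 1, 1)] := by decide +kernel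

theorem g2_c5 : commuteChk chevG2 11 8 = true := by decide +kernel
theorem g2_c6 : commuteChk chevG2 10 9 = true := by decide +kernel
theorem g2_c7 : commuteChk chevG2 11 9 = true := by decide +kernel
theorem g2_c8 : commuteChk chevG2 11 10 = true := by decide +kernel

theorem g2_cw76 (q p : K) : chevG2.commWord K 7 6 q p =
    [(8, q * p), (9, q ^ 2 * p), (10, -(q ^ 3 * p)), (11, -(q ^ 3 * p ^ 2))] := by
  unfold ChevalleyDatum.commWord
  rw [g2_ct76]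
  have h : ∀ (a b c d a' b' c' d' : K), a = a' → b = b' → c = c' → d = d' →
      [((8 : ℕ), a), (9, b), (10, c), (11, d)] = [(8, a'), (9, b'), (10, c'), (11, d')] := by
    rintro _ _ _ _ _ _ _ _ rfl rfl rfl rfl
    rfl
  exact h _ _ _ _ _ _ _ _ (by push_cast; ring) (by push_cast; ring) (by push_cast; ring)
    (by push_cast; ring)

theorem g2_cw89 [CharP K 3] (t u : K) : chevG2.wordMat K (chevG2.commWord K 8 9 t u) = 1 := by
  unfold ChevalleyDatum.commWord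
  rw [g2_ct89]
  have h3 : ((3 : ℤ) : K) = 0 := by
    have := CharP.cast_eq_zero K 3
    exact_mod_cast this
  apply wordMat_eq_one_of_zero
  intro p hp
  simp only [List.map_cons, List.map_nil, List.mem_singleton] at hp
  rw [hp]
  show ((3 : ℤ) : K) * (-t) ^ 1 * u ^ 1 = 0
  rw [h3, zero_mul, zero_mul]

/-- the commutator of `x_b(p)` and `x_a(q)` -/
theorem comm67 (p q : K) (Z : GL chevG2.Idx K) :
    X 6 p * (X 7 q * Z) = X 7 q * (X 6 p * (X 8 (q * p) * (X 9 (q ^ 2 * p) *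
      (X 10 (-(q ^ 3 * p)) * (X 11 (-(q ^ 3 * p ^ 2)) * Z))))) := by
  have h : X 6 p * X 7 q = X 7 q * X 6 p * (X 8 (q * p) * (X 9 (q ^ 2 * p) *
      (X 10 (-(q ^ 3 * p)) * X 11 (-(q ^ 3 * p ^ 2))))) := by
    apply Units.ext
    simp only [Units.val_mul, xGL_val]
    rw [comm_formula chevG2 hG2 7 6 g2_lt.2.1 g2_lt.1 (by decide) (by decide +kernel) q p,
      g2_cw76]
    simp only [wmat_cons, wmat_nil, Matrix.mul_one]
  rw [← mul_assoc, h]
  simp only [mul_assoc]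

theorem comm98 [CharP K 3] (s t : K) : Commute (X 9 s) (X 8 t) := by
  show X 9 s * X 8 t = X 8 t * X 9 s
  apply Units.ext
  rw [Units.val_mul, Units.val_mul, xGL_val, xGL_val,
    comm_formula chevG2 hG2 8 9 g2_lt.2.2.1 g2_lt.2.2.2.1 (by decide) (by decide +kernel) t s,
    g2_cw89, Matrix.mul_one]

/-- the root elements of `a+b, 2a+b, 3a+b, 3a+2b` commute pairwise (characteristic 3) -/
theorem y4_mul [CharP K 3] (a b c d a' b' c' d' : K) :
    X 8 a * (X 9 b * (X 10 c * (X 11 d * (X 8 a' * (X 9 b' * (X 10 c' * X 11 d')))))) =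
      X 8 (a + a') * (X 9 (b + b') * (X 10 (c + c') * X 11 (d + d'))) := by
  have h1 : Commute (X 9 b) (X 8 a') := comm98 b a'
  have h2 : Commute (X 10 c) (X 8 a') := commute_of_chk chevG2 hG2 10 8 g2_c1 c a'
  have h3 : Commute (X 11 d) (X 8 a') := commute_of_chk chevG2 hG2 11 8 g2_c5 d a'
  have h4 : Commute (X 10 c) (X 9 b') := commute_of_chk chevG2 hG2 10 9 g2_c6 c b'
  have h5 : Commute (X 11 d) (X 9 b') := commute_of_chk chevG2 hG2 11 9 g2_c7 d b'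
  have h6 : Commute (X 11 d) (X 10 c') := commute_of_chk chevG2 hG2 11 10 g2_c8 d c'
  have key : (X 8 a * X 9 b * X 10 c * X 11 d) * (X 8 a' * X 9 b' * X 10 c' * X 11 d') =
      X 8 (a + a') * X 9 (b + b') * X 10 (c + c') * X 11 (d + d') := by
    rw [((h3.mul_right h5).mul_right h6).mul_mul_mul_comm, (h2.mul_right h4).mul_mul_mul_comm,
      h1.mul_mul_mul_comm, ← xGL_add chevG2 hG2 8 g2_lt.2.2.1,
      ← xGL_add chevG2 hG2 9 g2_lt.2.2.2.1, ← xGL_add chevG2 hG2 10 g2_lt.2.2.2.2.1,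
      ← xGL_add chevG2 hG2 11 g2_lt.2.2.2.2.2]
  simp only [mul_assoc] at key
  exact key

theorem swap_hi [CharP K 3] (C D Y Z : K) :
    X 10 C * (X 11 D * (X 8 Y * X 9 Z)) = X 8 Y * (X 9 Z * (X 10 C * X 11 D)) := by
  have h := y4_mul (0 : K) 0 C D Y Z 0 0
  simp only [xGL_zero, one_mul, mul_one, zero_add, add_zero] at h
  exact h

/-- reordering `x_a x_b` into `x_b x_a` in front of the commuting part -/
theorem P76 [CharP K 3] (p q C D Y Z : K) :
    X 7 q * (X 6 p * (X 10 C * (X 11 D * (X 8 Y * X 9 Z)))) =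
      X 6 p * (X 7 q * (X 8 (Y - q * p) * (X 9 (Z - q ^ 2 * p) * (X 10 (C + q ^ 3 * p) *
        X 11 (D + q ^ 3 * p ^ 2))))) := by
  rw [comm67 p q, y4_mul, swap_hi]
  have e1 : q * p + (Y - q * p) = Y := by ring
  have e2 : q ^ 2 * p + (Z - q ^ 2 * p) = Z := by ring
  have e3 : -(q ^ 3 * p) + (C + q ^ 3 * p) = C := by ring
  have e4 : -(q ^ 3 * p ^ 2) + (D + q ^ 3 * p ^ 2) = D := by ring
  rw [e1, e2, e3, e4]

/-- the normal form of the generating words of `U¹` -/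
theorem reeU_nf [CharP K 3] (e : ℕ) (t u v : K) :
    wGL chevG2 hG2 (reeWordU e t u v) =
      wGL chevG2 hG2 (u6 t (t ^ e) (u ^ e) (v ^ e) (u + (t ^ e) ^ 3 * t)
        (v + (t ^ e) ^ 3 * t ^ 2)) := by
  rw [reeU_val, u6_val]
  have h := P76 t (t ^ e) u v (t ^ (e + 1) + u ^ e) (t ^ (2 * e + 1) + v ^ e)
  have e1 : t ^ (e + 1) + u ^ e - t ^ e * t = u ^ e := by rw [pow_succ]; ring
  have e2 : t ^ (2 * e + 1) + v ^ e - (t ^ e) ^ 2 * t = v ^ e := by
    rw [pow_succ, pow_mul']; ring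
  rw [e1, e2] at h
  rw [← h, swap_hi]


/-! ### the group `G₂(K)` and the automorphism `σ` -/

theorem wGL_mem_grp (w : List (ℕ × K)) : wGL chevG2 hG2 w ∈ chevG2.group K := by
  induction w with
  | nil => exact Subgroup.one_mem _
  | cons p w ih =>
    rw [wGL_cons]
    exact Subgroup.mul_mem _ (xGL_mem_group chevG2 hG2 p.1 p.2) ih

/-- root elements of the group `G₂(K)` -/
noncomputable def xG (r : ℕ) (t : K) : ↥(chevG2.group K) :=
  ⟨xGL chevG2 hG2 r t, xGL_mem_group chevG2 hG2 r t⟩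

theorem xG_coe (r : ℕ) (t : K) : ((xG r t : ↥(chevG2.group K)) : GL chevG2.Idx K) =
    xGL chevG2 hG2 r t := rfl

/-- the normal form elements of `U`, in the group -/
noncomputable def u6G (a b c d e f : K) : ↥(chevG2.group K) :=
  ⟨wGL chevG2 hG2 (u6 a b c d e f), wGL_mem_grp _⟩

theorem u6G_coe (a b c d e f : K) : ((u6G a b c d e f : ↥(chevG2.group K)) : GL chevG2.Idx K) =
    wGL chevG2 hG2 (u6 a b c d e f) := rfl

theorem u6G_eq (a b c d e f : K) : u6G a b c d e f =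
    xG 6 a * (xG 7 b * (xG 8 c * (xG 9 d * (xG 10 e * xG 11 f)))) := by
  apply Subtype.ext
  simp only [Subgroup.coe_mul, xG_coe, u6G_coe, u6_val]

theorem u6G_congr {a b c d e f a' b' c' d' e' f' : K} (h1 : a = a') (h2 : b = b') (h3 : c = c')
    (h4 : d = d') (h5 : e = e') (h6 : f = f') : u6G a b c d e f = u6G a' b' c' d' e' f' := by
  subst h1 h2 h3 h4 h5 h6
  rfl

/-- the root permutation of the graph automorphism -/
def rho (r : ℕ) : ℕ := ([2, 3, 0, 1, 5, 4, 7, 6, 10, 11, 8, 9] : List ℕ).getD r 0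

/-- the exponent of the graph automorphism -/
def lam (r : ℕ) : ℕ := if ([2, 3, 4, 7, 8, 9] : List ℕ).contains r then 3 else 1

/-- `σ` acts on root elements as the graph automorphism composed with `t ↦ t^e` -/
def IsSig (e : ℕ) (σ : ↥(chevG2.group K) →* ↥(chevG2.group K)) : Prop :=
  ∀ r < chevG2.nroots, ∀ t : K, σ (xG r t) = xG (rho r) (t ^ (lam r * e))

theorem g2_lt' : 1 < chevG2.nroots ∧ 3 < chevG2.nroots := by decide +kernel

theorem rho_lt : ∀ r < chevG2.nroots, rho r < chevG2.nroots := by decide +kernel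

section sig

variable {e : ℕ} {σ : ↥(chevG2.group K) →* ↥(chevG2.group K)} (hσ : IsSig e σ)
include hσ

theorem sig6 (t : K) : σ (xG 6 t) = xG 7 (t ^ e) :=
  (hσ 6 g2_lt.1 t).trans (by rw [show rho 6 = 7 from rfl, show lam 6 = 1 from rfl, one_mul])

theorem sig7 (t : K) : σ (xG 7 t) = xG 6 (t ^ (3 * e)) :=
  (hσ 7 g2_lt.2.1 t).trans (by rw [show rho 7 = 6 from rfl, show lam 7 = 3 from rfl])

theorem sig8 (t : K) : σ (xG 8 t) = xG 10 (t ^ (3 * e)) :=
  (hσ 8 g2_lt.2.2.1 t).trans (by rw [show rho 8 = 10 from rfl, show lam 8 = 3 from rfl])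

theorem sig9 (t : K) : σ (xG 9 t) = xG 11 (t ^ (3 * e)) :=
  (hσ 9 g2_lt.2.2.2.1 t).trans (by rw [show rho 9 = 11 from rfl, show lam 9 = 3 from rfl])

theorem sig10 (t : K) : σ (xG 10 t) = xG 8 (t ^ e) :=
  (hσ 10 g2_lt.2.2.2.2.1 t).trans
    (by rw [show rho 10 = 8 from rfl, show lam 10 = 1 from rfl, one_mul])

theorem sig11 (t : K) : σ (xG 11 t) = xG 9 (t ^ e) :=
  (hσ 11 g2_lt.2.2.2.2.2 t).trans
    (by rw [show rho 11 = 9 from rfl, show lam 11 = 1 from rfl, one_mul])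

theorem sig1 (t : K) : σ (xG 1 t) = xG 3 (t ^ e) :=
  (hσ 1 g2_lt'.1 t).trans (by rw [show rho 1 = 3 from rfl, show lam 1 = 1 from rfl, one_mul])

theorem sig3 (t : K) : σ (xG 3 t) = xG 1 (t ^ (3 * e)) :=
  (hσ 3 g2_lt'.2 t).trans (by rw [show rho 3 = 1 from rfl, show lam 3 = 3 from rfl])

/-- the action of `σ` on `U`, in normal form -/
theorem sig_u6 [CharP K 3] (a b c d e' f : K) :
    σ (u6G a b c d e' f) = u6G (b ^ (3 * e)) (a ^ e) (e' ^ e - a ^ e * b ^ (3 * e))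
      (f ^ e - (a ^ e) ^ 2 * b ^ (3 * e)) (c ^ (3 * e) + (a ^ e) ^ 3 * b ^ (3 * e))
      (d ^ (3 * e) + (a ^ e) ^ 3 * (b ^ (3 * e)) ^ 2) := by
  rw [u6G_eq]
  simp only [map_mul, sig6 hσ, sig7 hσ, sig8 hσ, sig9 hσ, sig10 hσ, sig11 hσ]
  apply Subtype.ext
  simp only [Subgroup.coe_mul, xG_coe, u6G_coe, u6_val]
  exact P76 _ _ _ _ _ _

/-- the generating words of `U¹` are fixed by `σ` -/
theorem sig_reeU [CharP K 3] (hF : ∀ x : K, (x ^ e) ^ (3 * e) = x)
    (hadd : ∀ x y : K, (x + y) ^ e = x ^ e + y ^ e) (t u v : K) :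
    σ (u6G t (t ^ e) (u ^ e) (v ^ e) (u + (t ^ e) ^ 3 * t) (v + (t ^ e) ^ 3 * t ^ 2)) =
      u6G t (t ^ e) (u ^ e) (v ^ e) (u + (t ^ e) ^ 3 * t) (v + (t ^ e) ^ 3 * t ^ 2) := by
  have h1 := hF t
  have h3 : (u + (t ^ e) ^ 3 * t) ^ e = u ^ e + t * t ^ e := by
    rw [hadd, mul_pow, ← pow_mul, hF]
  have h4 : (v + (t ^ e) ^ 3 * t ^ 2) ^ e = v ^ e + t * (t ^ e) ^ 2 := by
    rw [hadd, mul_pow, ← pow_mul (t ^ e) 3 e, hF, ← pow_mul, ← pow_mul, mul_comm 2 e]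
  refine (sig_u6 hσ _ _ _ _ _ _).trans (u6G_congr h1 rfl ?_ ?_ ?_ ?_)
  · rw [h3, h1]; ring
  · rw [h4, h1]; ring
  · rw [hF u, h1]
  · rw [hF v, h1]

/-- the element `n₀` of the group -/
noncomputable def n0G (K : Type*) [Field K] : ↥(chevG2.group K) := ⟨n0 K, wGL_mem_grp _⟩

omit hσ in
theorem n0G_coe : ((n0G K : ↥(chevG2.group K)) : GL chevG2.Idx K) = n0 K := rfl

theorem sig_n0 (hodd : Odd e) : σ (n0G K) = n0G K := by
  have e1 : n0G K = xG 10 1 * (xG 8 1 * (xG 1 (-1) * (xG 3 (-1) * (xG 10 1 * xG 8 1)))) := by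
    apply Subtype.ext
    simp only [Subgroup.coe_mul, xG_coe, n0G_coe]
    unfold n0 n0w
    simp only [wGL_cons, wGL_nil, mul_one]
  have hn1 : (-1 : K) ^ e = -1 := hodd.neg_one_pow
  have hn3 : (-1 : K) ^ (3 * e) = -1 := (Odd.mul (by decide) hodd).neg_one_pow
  rw [e1]
  simp only [map_mul, sig1 hσ, sig3 hσ, sig8 hσ, sig10 hσ, one_pow, hn1, hn3]
  apply Subtype.ext
  simp only [Subgroup.coe_mul, xG_coe]
  have e2 := n0_eq (K := K)
  simp only [mul_assoc] at e2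
  unfold n0 n0w at e2
  simp only [wGL_cons, wGL_nil, mul_one] at e2
  exact e2.symm

end sig

/-- the generating words of `V¹` are the conjugates under `n₀` of those of `U¹` -/
theorem reeV_conj (e : ℕ) (t u v : K) :
    wGL chevG2 hG2 (reeWordV e t u v) = n0 K * wGL chevG2 hG2 (reeWordU e t u v) * (n0 K)⁻¹ := by
  have hc : ∀ s, chevG2.IsPosRoot s → ∀ c : K,
      MulAut.conj (n0 K) (xGL chevG2 hG2 s c) = xGL chevG2 hG2 (chevG2.neg s) (-c) :=
    fun s hs c => by rw [MulAut.conj_apply]; exact n0_conj s hs c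
  have h : n0 K * wGL chevG2 hG2 (reeWordU e t u v) * (n0 K)⁻¹ =
      MulAut.conj (n0 K) (wGL chevG2 hG2 (reeWordU e t u v)) := (MulAut.conj_apply _ _).symm
  rw [h, reeV_val, reeU_val]
  simp only [map_mul, hc 7 g2_pos.2.1, hc 6 g2_pos.1, hc 8 g2_pos.2.2.1, hc 9 g2_pos.2.2.2.1,
    hc 10 g2_pos.2.2.2.2.1, hc 11 g2_pos.2.2.2.2.2, g2_neg.1, g2_neg.2.1, g2_neg.2.2.1,
    g2_neg.2.2.2.1, g2_neg.2.2.2.2.1, g2_neg.2.2.2.2.2]

/-- Every element of `²G₂` is fixed by `σ`. -/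
theorem twistedG2_fixed [CharP K 3] {e : ℕ} {σ : ↥(chevG2.group K) →* ↥(chevG2.group K)}
    (hσ : IsSig e σ) (hF : ∀ x : K, (x ^ e) ^ (3 * e) = x)
    (hadd : ∀ x y : K, (x + y) ^ e = x ^ e + y ^ e) (hodd : Odd e)
    (g : GL chevG2.Idx K) (hg : g ∈ twistedG2 K e) :
    ∃ h : ↥(chevG2.group K), (h : GL chevG2.Idx K) = g ∧ σ h = h := by
  have hle : twistedG2 K e ≤
      (σ.eqLocus (MonoidHom.id _)).map (chevG2.group K).subtype := by
    unfold twistedG2 ChevalleyDatum.genSubgroup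
    rw [Subgroup.closure_le]
    rintro g ⟨w, hw, hg⟩
    have eg : g = wGL chevG2 hG2 w := Units.ext (by rw [hg, wGL_val])
    have hU : ∀ t u v : K, ∃ h : ↥(chevG2.group K),
        (h : GL chevG2.Idx K) = wGL chevG2 hG2 (reeWordU e t u v) ∧ σ h = h := fun t u v =>
      ⟨u6G t (t ^ e) (u ^ e) (v ^ e) (u + (t ^ e) ^ 3 * t) (v + (t ^ e) ^ 3 * t ^ 2),
        by rw [u6G_coe, reeU_nf], sig_reeU hσ hF hadd t u v⟩
    obtain ⟨t, u, v, rfl | rfl⟩ := hw
    · obtain ⟨h, hh, hfix⟩ := hU t u v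
      exact ⟨h, hfix, by rw [eg]; exact hh⟩
    · obtain ⟨h, hh, hfix⟩ := hU t u v
      refine ⟨n0G K * h * (n0G K)⁻¹, ?_, ?_⟩
      · show σ (n0G K * h * (n0G K)⁻¹) = n0G K * h * (n0G K)⁻¹
        rw [map_mul, map_mul, map_inv, sig_n0 hσ hodd, hfix]
      · rw [eg, reeV_conj, ← hh]
        rfl
  obtain ⟨h, hfix, hh⟩ := hle hg
  exact ⟨h, hh, hfix⟩


/-! ### existence of `σ` over the fields of order `3^(2m+1)` -/

theorem charP_three [Fintype K] {n : ℕ} (hn : n ≠ 0) (hK : Fintype.card K = 3 ^ n) :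
    CharP K 3 := by
  obtain ⟨p, hp⟩ := CharP.exists K
  have := hp
  obtain ⟨k, hpn, hcard⟩ := FiniteField.card K p
  have h3 : (3 : ℕ) ∣ p ^ (k : ℕ) := by
    rw [← hcard, hK]
    exact dvd_pow_self 3 hn
  have : p = 3 :=
    ((Nat.prime_dvd_prime_iff_eq Nat.prime_three hpn).1 (Nat.prime_three.dvd_of_dvd_pow h3)).symm
  rw [← this]
  exact hp

theorem exists_sig [Fintype K] (m : ℕ) (hK : Fintype.card K = 3 ^ (2 * m + 1)) :
    ∃ σ : ↥(chevG2.group K) →* ↥(chevG2.group K), IsSig (3 ^ m) σ := by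
  have : CharP K 3 := charP_three (by omega) hK
  have : Fact (Nat.Prime 3) := ⟨Nat.prime_three⟩
  have hperf : ∀ x : K, ∃ y : K, y ^ 3 = x := by
    intro x
    obtain ⟨y, hy⟩ := (Finite.injective_iff_surjective.1 (frobenius K 3).injective) x
    exact ⟨y, by rw [← hy, frobenius_def]⟩
  obtain ⟨α, hα⟩ := Gr.graph_aut_G2 hperf
  let f : K ≃+* K := RingEquiv.ofBijective (iterateFrobenius K 3 m)
    (Finite.injective_iff_bijective.1 (iterateFrobenius K 3 m).injective)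
  have hf : ∀ t, f t = t ^ 3 ^ m := fun t => rfl
  obtain ⟨β, hβ⟩ := Cfsg.Agent.S1080.result chevG2 hG2 f
  refine ⟨(α.trans β).toMonoidHom, fun r hr t => ?_⟩
  have h1 := hα (xG r t) r t hr (xGL_val chevG2 hG2 r t)
  have h2 := hβ (α (xG r t)) (rho r) (t ^ lam r) (rho_lt r hr) h1
  apply Subtype.ext
  apply Units.ext
  show ((β (α (xG r t)) : GL chevG2.Idx K) : Matrix chevG2.Idx chevG2.Idx K) = _
  rw [h2, hf, ← pow_mul]
  rfl

theorem field_facts [Fintype K] [CharP K 3] (m : ℕ) (hK : Fintype.card K = 3 ^ (2 * m + 1)) :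
    (∀ x : K, (x ^ 3 ^ m) ^ (3 * 3 ^ m) = x) ∧
    (∀ x y : K, (x + y) ^ 3 ^ m = x ^ 3 ^ m + y ^ 3 ^ m) ∧
    (∀ x y : K, (x - y) ^ 3 ^ m = x ^ 3 ^ m - y ^ 3 ^ m) ∧ Odd (3 ^ m) := by
  have : Fact (Nat.Prime 3) := ⟨Nat.prime_three⟩
  refine ⟨fun x => ?_, fun x y => add_pow_char_pow x y 3 m, fun x y => sub_pow_char_pow x y m,
    Odd.pow (by decide)⟩
  have h := FiniteField.pow_card x
  rw [hK] at h
  rw [← pow_mul]
  have e : 3 ^ m * (3 * 3 ^ m) = 3 ^ (2 * m + 1) := by ring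
  rw [e]
  exact h

/-! ### `U¹` -/

omit [Field K] in
theorem u6_congr {a b c d e f a' b' c' d' e' f' : K} (h1 : a = a') (h2 : b = b') (h3 : c = c')
    (h4 : d = d') (h5 : e = e') (h6 : f = f') : u6 a b c d e f = u6 a' b' c' d' e' f' := by
  subst h1 h2 h3 h4 h5 h6
  rfl

theorem posU_nf (g : GL chevG2.Idx K) (hg : g ∈ chevG2.posUnipotent K) :
    ∃ a b c d e f : K, g = wGL chevG2 hG2 (u6 a b c d e f) := by
  obtain ⟨t, ⟨-, ht⟩, -⟩ := (unique_product_all (F := K) chevG2 hG2).1 g hg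
  refine ⟨t 6, t 7, t 8, t 9, t 10, t 11, Units.ext ?_⟩
  rw [ht, wGL_val, g2_posRoots]
  rfl

section fixed

variable [CharP K 3] {e : ℕ} {σ : ↥(chevG2.group K) →* ↥(chevG2.group K)} (hσ : IsSig e σ)
  (hF : ∀ x : K, (x ^ e) ^ (3 * e) = x) (hadd : ∀ x y : K, (x + y) ^ e = x ^ e + y ^ e)
  (hsub : ∀ x y : K, (x - y) ^ e = x ^ e - y ^ e) (hodd : Odd e)
include hσ hF hadd hodd

/-- `U¹` consists of the generating words -/
theorem U1_iff (hsub : ∀ x y : K, (x - y) ^ e = x ^ e - y ^ e) (g : GL chevG2.Idx K) :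
    g ∈ chevG2.posUnipotent K ⊓ twistedG2 K e ↔
      ∃ t u v : K, (g : Matrix chevG2.Idx chevG2.Idx K) = chevG2.wordMat K (reeWordU e t u v) := by
  constructor
  · rintro ⟨hU, hG⟩
    obtain ⟨a, b, c, d, e', f, rfl⟩ := posU_nf g hU
    obtain ⟨h, hh, hfix⟩ := twistedG2_fixed hσ hF hadd hodd _ hG
    have hh' : h = u6G a b c d e' f := Subtype.ext hh
    rw [hh', sig_u6 hσ] at hfix
    obtain ⟨i1, i2, i3, i4, -, -⟩ := u6_inj _ _ _ _ _ _ _ _ _ _ _ _
      (congrArg (fun x : ↥(chevG2.group K) => (x : GL chevG2.Idx K)) hfix)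
    refine ⟨a, e' - (a ^ e) ^ 3 * a, f - (a ^ e) ^ 3 * a ^ 2, ?_⟩
    rw [← wGL_val chevG2 hG2, reeU_nf]
    have hb : b = a ^ e := i2.symm
    have hc : c = (e' - (a ^ e) ^ 3 * a) ^ e := by
      rw [hsub, mul_pow, ← pow_mul, hF, ← i3, i1]; ring
    have hd : d = (f - (a ^ e) ^ 3 * a ^ 2) ^ e := by
      rw [hsub, mul_pow, ← pow_mul (a ^ e) 3 e, hF, ← pow_mul, mul_comm 2 e, pow_mul, ← i4, i1]
      ring
    rw [u6_congr (rfl : a = a) hb hc hd (by ring : e' = e' - (a ^ e) ^ 3 * a + (a ^ e) ^ 3 * a)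
      (by ring : f = f - (a ^ e) ^ 3 * a ^ 2 + (a ^ e) ^ 3 * a ^ 2)]
  · rintro ⟨t, u, v, hg⟩
    have eg : g = wGL chevG2 hG2 (reeWordU e t u v) := Units.ext (by rw [hg, wGL_val])
    rw [eg]
    exact ⟨by rw [reeU_nf]; exact u6_mem_pos _ _ _ _ _ _, reeU_mem e t u v⟩

/-- `|U¹| = |K|³` -/
theorem U1_card [Fintype K] (hsub : ∀ x y : K, (x - y) ^ e = x ^ e - y ^ e) :
    Nat.card ↥(chevG2.posUnipotent K ⊓ twistedG2 K e) = Fintype.card K ^ 3 := by
  have hiff := U1_iff hσ hF hadd hodd hsub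
  let φ : K × K × K → ↥(chevG2.posUnipotent K ⊓ twistedG2 K e) := fun p =>
    ⟨wGL chevG2 hG2 (reeWordU e p.1 p.2.1 p.2.2),
      (hiff _).2 ⟨p.1, p.2.1, p.2.2, wGL_val chevG2 hG2 _⟩⟩
  have hbij : Function.Bijective φ := by
    constructor
    · rintro ⟨t, u, v⟩ ⟨t', u', v'⟩ h
      have h' : wGL chevG2 hG2 (reeWordU e t u v) = wGL chevG2 hG2 (reeWordU e t' u' v') :=
        congrArg (fun x : ↥(chevG2.posUnipotent K ⊓ twistedG2 K e) => (x : GL chevG2.Idx K)) h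
      rw [reeU_nf, reeU_nf] at h'
      obtain ⟨i1, -, -, -, i5, i6⟩ := u6_inj _ _ _ _ _ _ _ _ _ _ _ _ h'
      subst i1
      have hu : u = u' := add_right_cancel i5
      have hv : v = v' := add_right_cancel i6
      rw [hu, hv]
    · rintro ⟨g, hg⟩
      obtain ⟨t, u, v, h⟩ := (hiff g).1 hg
      exact ⟨(t, u, v), Subtype.ext (Units.ext (by rw [h]; exact wGL_val chevG2 hG2 _))⟩
  rw [← Nat.card_congr (Equiv.ofBijective φ hbij), Nat.card_prod, Nat.card_prod,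
    Nat.card_eq_fintype_card]
  ring

/-! ### `H¹` -/

/-- the character of an element of `H¹` -/
theorem H1_char (x : GL chevG2.Idx K) (hxH : x ∈ chevG2.diagonalSubgroup K)
    (hxG : x ∈ twistedG2 K e) :
    ∃ d : ℕ → K, MulGraded chevG2 d ∧ (x : Matrix chevG2.Idx chevG2.Idx K) = torus K chevG2 d ∧
      d 6 = d 7 ^ (3 * e) := by
  obtain ⟨d, hd, hx⟩ := diagonalSubgroup_le_gradedTorus chevG2 hG2 hxH
  obtain ⟨h, hh, hfix⟩ := twistedG2_fixed hσ hF hadd hodd x hxG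
  refine ⟨d, hd, hx, ?_⟩
  have key : ∀ r < chevG2.nroots, ∀ t : K, h * xG r t = xG r (d r * t) * h := by
    intro r hr t
    apply Subtype.ext
    apply Units.ext
    simp only [Subgroup.coe_mul, Units.val_mul, xG_coe, xGL_val, hh, hx]
    exact torus_mul_x chevG2 d hd r hr t
  have e2 := congrArg σ (key 7 g2_lt.2.1 1)
  rw [map_mul, map_mul, hfix, sig7 hσ, sig7 hσ, key 6 g2_lt.1] at e2
  have e3 := congrArg (fun g : ↥(chevG2.group K) =>
    ((g : GL chevG2.Idx K) : Matrix chevG2.Idx chevG2.Idx K)) (mul_right_cancel e2)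
  simp only [xG_coe, xGL_val] at e3
  have e4 := x_inj chevG2 hG2 6 g2_lt.1 _ _ e3
  rw [one_pow, mul_one, mul_one] at e4
  exact e4

/-- an element of `H¹` is determined by its diagonal entry at the root `a` -/
theorem H1_inj (x y : GL chevG2.Idx K) (hxH : x ∈ chevG2.diagonalSubgroup K)
    (hxG : x ∈ twistedG2 K e) (hyH : y ∈ chevG2.diagonalSubgroup K) (hyG : y ∈ twistedG2 K e)
    (h7 : dEnt chevG2 x 7 = dEnt chevG2 y 7) : x = y := by
  obtain ⟨dx, hdx, hx, x6⟩ := H1_char hσ hF hadd hodd x hxH hxG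
  obtain ⟨dy, hdy, hy, y6⟩ := H1_char hσ hF hadd hodd y hyH hyG
  rw [dEnt_torus chevG2 x dx hx 7 g2_lt.2.1, dEnt_torus chevG2 y dy hy 7 g2_lt.2.1] at h7
  have h6 : dx 6 = dy 6 := by rw [x6, y6, h7]
  have hzH : x⁻¹ * y ∈ chevG2.diagonalSubgroup K :=
    Subgroup.mul_mem _ (Subgroup.inv_mem _ hxH) hyH
  obtain ⟨dz, hdz, hz⟩ := diagonalSubgroup_le_gradedTorus chevG2 hG2 hzH
  have hmul : torus K chevG2 dy = torus K chevG2 (fun s => dx s * dz s) := by
    rw [← torus_mul_torus, ← hx, ← hz, ← hy, ← Units.val_mul, mul_inv_cancel_left]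
  have hent : ∀ r < chevG2.nroots, dy r = dx r * dz r := by
    intro r hr
    have := congrFun (congrFun hmul (Sum.inr ⟨r, hr⟩)) (Sum.inr ⟨r, hr⟩)
    rwa [torus_apply_rv, torus_apply_rv] at this
  have hone : ∀ r < chevG2.nroots, dx r = dy r → dz r = 1 := by
    intro r hr h
    have e := hent r hr
    rw [← h] at e
    have : dx r * 1 = dx r * dz r := by rw [mul_one]; exact e
    exact (mul_left_cancel₀ (hdx.ne_zero r hr) this).symm
  have hz1 : x⁻¹ * y = 1 := by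
    apply torus_eq_one_of_simple chevG2 hG2 _ dz hdz hz
    intro i hi
    rw [g2_rank] at hi
    interval_cases i
    · rw [g2_simple.1]; exact hone 7 g2_lt.2.1 h7
    · rw [g2_simple.2]; exact hone 6 g2_lt.1 h6
  exact inv_mul_eq_one.1 hz1

/-- `H¹` is cyclic -/
theorem H1_cyclic [Finite K] : IsCyclic ↥(chevG2.diagonalSubgroup K ⊓ twistedG2 K e) := by
  have hne : ∀ x : ↥(chevG2.diagonalSubgroup K ⊓ twistedG2 K e),
      dEnt chevG2 (x : GL chevG2.Idx K) 7 ≠ 0 := by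
    intro x
    obtain ⟨d, hd, hx⟩ := diagonalSubgroup_le_gradedTorus chevG2 hG2 x.2.1
    rw [dEnt_torus chevG2 _ d hx 7 g2_lt.2.1]
    exact hd.ne_zero 7 g2_lt.2.1
  have hmul : ∀ x y : ↥(chevG2.diagonalSubgroup K ⊓ twistedG2 K e),
      dEnt chevG2 ((x * y : ↥(chevG2.diagonalSubgroup K ⊓ twistedG2 K e)) : GL chevG2.Idx K) 7 =
        dEnt chevG2 (x : GL chevG2.Idx K) 7 * dEnt chevG2 (y : GL chevG2.Idx K) 7 := by
    intro x y
    obtain ⟨dx, hdx, hx⟩ := diagonalSubgroup_le_gradedTorus chevG2 hG2 x.2.1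
    obtain ⟨dy, hdy, hy⟩ := diagonalSubgroup_le_gradedTorus chevG2 hG2 y.2.1
    rw [dEnt_torus chevG2 _ dx hx 7 g2_lt.2.1, dEnt_torus chevG2 _ dy hy 7 g2_lt.2.1,
      dEnt_torus chevG2 _ (fun s => dx s * dy s)
        (by rw [Subgroup.coe_mul, Units.val_mul, hx, hy, torus_mul_torus]) 7 g2_lt.2.1]
  let ψ : ↥(chevG2.diagonalSubgroup K ⊓ twistedG2 K e) →* Kˣ :=
    MonoidHom.mk' (fun x => Units.mk0 _ (hne x)) (fun x y => Units.ext (hmul x y))
  have hinj : Function.Injective ψ := by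
    intro x y hxy
    have h7 : dEnt chevG2 (x : GL chevG2.Idx K) 7 = dEnt chevG2 (y : GL chevG2.Idx K) 7 :=
      congrArg (fun u : Kˣ => (u : K)) hxy
    exact Subtype.ext (H1_inj hσ hF hadd hodd _ _ x.2.1 x.2.2 y.2.1 y.2.2 h7)
  exact isCyclic_of_injective ψ hinj

end fixed

end Cfsg.Agent.Lib.Helper27.Ree
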