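import Mathlib
import Cfsg.Agent.Lib.Helper27.ReeSig

/-!
# The small Ree groups `²G₂`: the order of `H¹`

A checker for identities between words in root elements in characteristic 3, the involution
`h_{3a+b}(-1)` of `H¹` as a word in the generators, the elements `h_{3a+b}(t) h_{a+b}(t^θ)`, and
`|H¹| = q - 1`.
-/

set_option autoImplicit false

namespace Cfsg.Agent.Lib.Helper27.Ree

open Cfsg.Lie Cfsg.Agent.Lib.Helper24 Matrix

variable {K : Type*} [Field K]

/-! ### identities of words in characteristic 3 -/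

/-- all coefficients of the sparse vector are divisible by 3 -/
def all3 (v : SVec) : Bool := v.all fun x => decide (x.2.1 % 3 = 0)

theorem evalV_all3 [CharP K 3] (D : ChevalleyDatum) (c t : K) (v : SVec) (h : all3 v = true) :
    evalV D c t v = 0 := by
  induction v with
  | nil => rfl
  | cons x v ih =>
    unfold all3 at h
    rw [List.all_cons, Bool.and_eq_true, decide_eq_true_eq] at h
    rw [evalV_cons, ih (by unfold all3; exact h.2)]
    have h3 : ((x.2.1 : ℤ) : K) = 0 := by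
      rw [CharP.intCast_eq_zero_iff K 3]
      exact Int.dvd_of_emod_eq_zero h.1
    rw [h3, zero_mul, zero_smul, add_zero]

/-- the two words agree modulo 3 on the basis vector `e_j` -/
noncomputable def colEq3 (l : ℕ) (w₁ w₂ : List (RInfo × ℤ × Mono)) (j : ℕ) : Bool :=
  all3 (vsub (applyWord l w₁ (unitV j)) (applyWord l w₂ (unitV j)))

/-- the two words have the same matrix modulo 3 -/
noncomputable def wordEq3 (D : ChevalleyDatum) (l₁ l₂ : List (ℕ × ℤ × Mono)) : Bool :=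
  ltAll D l₁ && (ltAll D l₂ &&
    natAll (Nat.add D.rank D.nroots) (colEq3 D.rank (mkW D l₁) (mkW D l₂)))

theorem wordEq3_sound [CharP K 3] (D : ChevalleyDatum) (h : preChk D = true)
    (l₁ l₂ : List (ℕ × ℤ × Mono)) (hchk : wordEq3 D l₁ l₂ = true) (c t : K) (hc : c ≠ 0) :
    D.wordMat K (wEval c t l₁) = D.wordMat K (wEval c t l₂) := by
  unfold wordEq3 at hchk
  simp only [Bool.and_eq_true] at hchk
  obtain ⟨h1, h2, h3⟩ := hchk
  rw [natAll_iff] at h3
  have hw₁ := mkW_valid D h l₁ h1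
  have hw₂ := mkW_valid D h l₂ h2
  have key : ∀ j < D.rank + D.nroots,
      D.wordMat K (wordOf c t (mkW D l₁)) *ᵥ bvec K D j =
        D.wordMat K (wordOf c t (mkW D l₂)) *ᵥ bvec K D j := by
    intro j hj
    have h4 := evalV_all3 D c t _ (h3 j hj)
    rw [evalV_vsub, evalV_applyWord D c t hc _ hw₁, evalV_applyWord D c t hc _ hw₂, evalV_unitV,
      sub_eq_zero] at h4
    exact h4
  rw [wordOf_mkW, wordOf_mkW] at key
  apply mat_ext
  · intro i hi
    have := key i (by omega)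
    rwa [bvec_lt D i hi] at this
  · intro s hs
    have := key (D.rank + s) (by omega)
    rwa [bvec_add D s] at this

/-- the word of `U(0,0,1) V(0,0,1) U(1,1,1) V(-1,1,-1)` -/
def h0s : List (ℕ × ℤ × Mono) :=
  [(9, 1, (0, 0)), (11, 1, (0, 0)), (2, -1, (0, 0)), (0, -1, (0, 0)), (7, 1, (0, 0)),
    (6, 1, (0, 0)), (8, 2, (0, 0)), (9, 2, (0, 0)), (10, 1, (0, 0)), (11, 1, (0, 0)),
    (4, 1, (0, 0)), (5, 1, (0, 0)), (3, -2, (0, 0)), (2, 2, (0, 0)), (1, -1, (0, 0)),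
    (0, 1, (0, 0))]

/-- the word of `h_{3a+b}(-1)` -/
def h0t : List (ℕ × ℤ × Mono) :=
  [(10, -1, (0, 0)), (1, 1, (0, 0)), (10, -1, (0, 0)), (10, -1, (0, 0)), (1, 1, (0, 0)),
    (10, -1, (0, 0))]

set_option maxRecDepth 100000 in
theorem h0_chk : wordEq3 chevG2 h0s h0t = true := by decide +kernel


/-! ### the involution of `H¹` -/

theorem g2_W : W chevG2 10 7 = 1 ∧ W chevG2 8 7 = -1 := by decide +kernel

theorem h0_word [CharP K 3] :
    chevG2.wordMat K [(9, 1), (11, 1), (2, -1), (0, -1), (7, 1), (6, 1), (8, 2), (9, 2), (10, 1),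
      (11, 1), (4, 1), (5, 1), (3, -2), (2, 2), (1, -1), (0, 1)] = chevG2.hMat K 10 (-1) := by
  have key := wordEq3_sound (K := K) chevG2 (preChk_of_mem chevG2 hG2) _ _ h0_chk 1 1 one_ne_zero
  simp only [h0s, h0t, wEval, List.map_cons, List.map_nil, evalM, zpow_zero, pow_zero, mul_one,
    Int.cast_one, Int.cast_neg, Int.cast_ofNat] at key
  rw [key]
  unfold ChevalleyDatum.hMat ChevalleyDatum.hWord ChevalleyDatum.nWord
  rw [g2_neg.2.2.2.2.1]
  have e1 : -(-1 : K)⁻¹ = 1 := by rw [inv_neg, inv_one, neg_neg]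
  rw [e1]
  rfl

theorem reeU_0u0 (e : ℕ) (he : e ≠ 0) (u : K) :
    wGL chevG2 hG2 (reeWordU e 0 u 0) = xGL chevG2 hG2 8 (u ^ e) * xGL chevG2 hG2 10 u := by
  rw [reeU_val]
  simp only [zero_pow he, zero_pow (Nat.succ_ne_zero _), zero_add, xGL_zero, one_mul,
    mul_one, add_zero]

theorem reeV_0u0 (e : ℕ) (he : e ≠ 0) (u : K) :
    wGL chevG2 hG2 (reeWordV e 0 u 0) =
      xGL chevG2 hG2 3 (-(u ^ e)) * xGL chevG2 hG2 1 (-u) := by
  rw [reeV_val]
  simp only [zero_pow he, zero_pow (Nat.succ_ne_zero _), zero_add, xGL_zero, one_mul,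
    mul_one, add_zero, neg_zero]

/-- the involution `h_{3a+b}(-1)` lies in `H¹` -/
theorem h0_mem [CharP K 3] (e : ℕ) (hodd : Odd e) :
    ∃ x : GL chevG2.Idx K, x ∈ chevG2.diagonalSubgroup K ∧ x ∈ twistedG2 K e ∧
      dEnt chevG2 x 7 = -1 := by
  have he : e ≠ 0 := by
    rintro rfl
    exact absurd hodd (by decide)
  have h1 : (0 : K) ^ e = 0 := zero_pow he
  have h2 : (0 : K) ^ (e + 1) = 0 := zero_pow (Nat.succ_ne_zero _)
  have h3 : (0 : K) ^ (2 * e + 1) = 0 := zero_pow (Nat.succ_ne_zero _)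
  have hn : (-1 : K) ^ e = -1 := hodd.neg_one_pow
  have hn1 : (-1 : K) ^ (e + 1) = 1 := hodd.add_one.neg_one_pow
  have hn2 : (-1 : K) ^ (2 * e + 1) = -1 := (odd_two_mul_add_one e).neg_one_pow
  have p2 : -((-1 : K) + -1) = 2 := by norm_num
  have p3 : (1 : K) + 1 = 2 := by norm_num
  have e1 : wGL chevG2 hG2 (reeWordU e (0 : K) 0 1) * wGL chevG2 hG2 (reeWordV e (0 : K) 0 1) *
      wGL chevG2 hG2 (reeWordU e (1 : K) 1 1) * wGL chevG2 hG2 (reeWordV e (-1 : K) 1 (-1)) =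
      wGL chevG2 hG2 [(9, 1), (11, 1), (2, -1), (0, -1), (7, 1), (6, 1), (8, 2), (9, 2), (10, 1),
        (11, 1), (4, 1), (5, 1), (3, -2), (2, 2), (1, -1), (0, 1)] := by
    rw [reeU_val, reeV_val, reeU_val, reeV_val]
    simp only [h1, h2, h3, one_pow, hn, hn1, hn2, neg_zero, add_zero, zero_add, neg_neg, xGL_zero,
      one_mul, mul_one, mul_assoc, p2, p3, wGL_cons, wGL_nil]
  have hval : ((wGL chevG2 hG2 (reeWordU e (0 : K) 0 1) *
      wGL chevG2 hG2 (reeWordV e (0 : K) 0 1) * wGL chevG2 hG2 (reeWordU e (1 : K) 1 1) *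
      wGL chevG2 hG2 (reeWordV e (-1 : K) 1 (-1)) : GL chevG2.Idx K) :
      Matrix chevG2.Idx chevG2.Idx K) = chevG2.hMat K 10 (-1) := by
    rw [e1, wGL_val, h0_word]
  have hne : (-1 : K) ≠ 0 := neg_ne_zero.2 one_ne_zero
  refine ⟨_, Subgroup.subset_closure ⟨10, -1, g2_lt.2.2.2.2.1, hne, hval⟩,
    Subgroup.mul_mem _ (Subgroup.mul_mem _ (Subgroup.mul_mem _ (reeU_mem e 0 0 1)
      (reeV_mem e 0 0 1)) (reeU_mem e 1 1 1)) (reeV_mem e (-1) 1 (-1)), ?_⟩
  rw [hMat_eq_torus chevG2 hG2 10 g2_lt.2.2.2.2.1 (-1) hne] at hval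
  rw [dEnt_torus chevG2 _ _ hval 7 g2_lt.2.1, g2_W.1, zpow_one]

/-- the elements `h_{3a+b}(t) h_{a+b}(t^θ)` of `H¹` -/
theorem At_mem (e : ℕ) (hodd : Odd e) (θ : K →+* K) (hθ : ∀ t, θ t = t ^ e) (t : K)
    (ht : t ≠ 0) :
    ∃ x : GL chevG2.Idx K, x ∈ chevG2.diagonalSubgroup K ∧ x ∈ twistedG2 K e ∧
      dEnt chevG2 x 7 = t * (t ^ e)⁻¹ := by
  have he : e ≠ 0 := by
    rintro rfl
    exact absurd hodd (by decide)
  obtain ⟨ψ, hU, hL, hDg⟩ := exists_sl2_pair_diag (F := K) chevG2 hG2 10 8 g2_lt.2.2.2.2.1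
    g2_lt.2.2.1 g2_orth θ
  have hU' : ∀ c, ψ (slU c) ∈ twistedG2 K e := fun c => by
    rw [hU, hθ, (commute_of_chk chevG2 hG2 10 8 g2_c1 c (c ^ e)).eq, ← reeU_0u0 e he c]
    exact reeU_mem e 0 c 0
  have hL' : ∀ c, ψ (slL c) ∈ twistedG2 K e := fun c => by
    rw [hL, hθ, g2_neg.2.2.2.2.1, g2_neg.2.2.1, (commute_of_chk chevG2 hG2 1 3 g2_c4 c (c ^ e)).eq]
    have := reeV_mem (K := K) e 0 (-c) 0
    rw [reeV_0u0 e he, hodd.neg_pow, neg_neg, neg_neg] at this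
    exact this
  have hB1 : ψ (slD t ht) ∈ twistedG2 K e := by
    rw [slD_eq]
    simp only [map_mul]
    exact Subgroup.mul_mem _ (Subgroup.mul_mem _ (Subgroup.mul_mem _ (hU' _) (hL' _)) (hU' _))
      (Subgroup.mul_mem _ (Subgroup.mul_mem _ (hU' _) (hL' _)) (hU' _))
  obtain ⟨hB3, hB2⟩ := hDg t ht
  refine ⟨ψ (slD t ht), hB3, hB1, ?_⟩
  rw [dEnt_torus chevG2 _ _ hB2 7 g2_lt.2.1, hθ, g2_W.1, g2_W.2, zpow_one, _root_.zpow_neg_one]


/-! ### the order of `H¹` -/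

/-- a subgroup of `Kˣ` containing the `t^(θ-1)` and `-1` is everything -/
theorem units_top [Fintype K] [CharP K 3] (m : ℕ) (hK : Fintype.card K = 3 ^ (2 * m + 1))
    (R : Subgroup Kˣ) (h1 : ∀ t : Kˣ, t ^ (3 ^ m - 1) ∈ R) (h2 : (-1 : Kˣ) ∈ R) : R = ⊤ := by
  classical
  have hodd : Odd (3 ^ m) := Odd.pow (by decide)
  have he1 : 1 ≤ 3 ^ m := Nat.one_le_pow _ _ (by norm_num)
  have hq : ∀ t : Kˣ, t ^ (3 ^ m * 3 ^ m * 3) = t := by
    intro t
    have h := FiniteField.pow_card (t : K)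
    rw [hK] at h
    apply Units.ext
    rw [Units.val_pow_eq_pow_val]
    have e' : 3 ^ m * 3 ^ m * 3 = 3 ^ (2 * m + 1) := by ring
    rw [e']
    exact h
  have hsq : ∀ t : Kˣ, t ^ (3 ^ m * 3 ^ m) = t → t ^ 2 = 1 := by
    intro t h
    have h3 : t ^ 3 = t := by
      have := hq t
      rwa [pow_mul, h] at this
    have : t ^ 2 * t = 1 * t := by rw [one_mul, ← pow_succ]; exact h3
    exact mul_right_cancel this
  have hpm : ∀ t : Kˣ, t ^ 2 = 1 → t = 1 ∨ t = -1 := by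
    intro t h
    have h' : (t : K) * (t : K) = 1 := by
      have := congrArg (fun u : Kˣ => (u : K)) h
      simpa [sq] using this
    rcases mul_self_eq_one_iff.1 h' with h'' | h''
    · exact Or.inl (Units.ext h'')
    · exact Or.inr (Units.ext (by rw [h'']; rfl))
  let φ : Kˣ →* Kˣ := powMonoidHom (3 ^ m - 1)
  have hφ : ∀ t, φ t = t ^ (3 ^ m - 1) := fun t => rfl
  have hsucc : ∀ t : Kˣ, t ^ 3 ^ m = t ^ (3 ^ m - 1) * t := fun t => by
    rw [← pow_succ, Nat.sub_add_cancel he1]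
  have hker : ∀ t ∈ φ.ker, t = 1 ∨ t = -1 := by
    intro t ht
    rw [MonoidHom.mem_ker, hφ] at ht
    have hte : t ^ 3 ^ m = t := by rw [hsucc, ht, one_mul]
    apply hpm
    apply hsq
    rw [pow_mul, hte, hte]
  have hkercard : Nat.card φ.ker ≤ 2 := by
    have hsub : (φ.ker : Set Kˣ) ⊆ {1, -1} := fun t ht => by
      rcases hker t ht with h | h
      · rw [h]; exact Set.mem_insert _ _
      · rw [h]; exact Set.mem_insert_of_mem _ rfl
    calc Nat.card φ.ker = (φ.ker : Set Kˣ).ncard := Nat.card_coe_set_eq _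
      _ ≤ ({1, -1} : Set Kˣ).ncard := Set.ncard_le_ncard hsub (Set.toFinite _)
      _ ≤ 2 := by
        refine (Set.ncard_insert_le _ _).trans ?_
        rw [Set.ncard_singleton]
  have hcard : Nat.card Kˣ ≤ 2 * Nat.card φ.range := by
    rw [← Subgroup.card_mul_index φ.ker, Subgroup.index_ker]
    exact Nat.mul_le_mul_right _ hkercard
  have hle : φ.range ≤ R := by
    rintro _ ⟨t, rfl⟩
    exact h1 t
  have hneg : (-1 : Kˣ) ∉ φ.range := by
    rintro ⟨t, ht⟩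
    rw [hφ] at ht
    have hte : t ^ 3 ^ m = -t := by rw [hsucc, ht, neg_one_mul]
    have hte2 : t ^ (3 ^ m * 3 ^ m) = t := by
      rw [pow_mul, hte, hodd.neg_pow, hte, neg_neg]
    have ht2 := hsq t hte2
    have heven : Even (3 ^ m - 1) := by
      rcases hodd with ⟨k, hk⟩
      exact ⟨k, by omega⟩
    obtain ⟨k, hk⟩ := heven
    have h1' : t ^ (3 ^ m - 1) = 1 := by
      rw [hk, ← two_mul, pow_mul, ht2, one_pow]
    rw [h1'] at ht
    have h2' : (1 : K) = -1 := by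
      have := congrArg (fun u : Kˣ => (u : K)) ht
      simpa using this
    have h3 : (3 : K) = 0 := by
      have := CharP.cast_eq_zero K 3
      exact_mod_cast this
    have : (1 : K) = 0 := by linear_combination h3 - h2'
    exact one_ne_zero this
  have hne : φ.range ≠ R := fun h => hneg (h ▸ h2)
  have hdvd : Nat.card φ.range ∣ Nat.card R := Subgroup.card_dvd_of_le hle
  have hdvd2 : Nat.card R ∣ Nat.card Kˣ := Subgroup.card_subgroup_dvd_card R
  have hpos : 0 < Nat.card Kˣ := Nat.card_pos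
  have hRpos : 0 < Nat.card R := Nat.card_pos
  have hlt : Nat.card φ.range ≠ Nat.card R := fun h =>
    hne (Subgroup.eq_of_le_of_card_ge hle (le_of_eq h.symm))
  obtain ⟨k, hk⟩ := hdvd
  have hk2 : 2 ≤ k := by
    rcases k with _ | _ | k
    · rw [mul_zero] at hk; omega
    · rw [zero_add, mul_one] at hk; exact absurd hk.symm hlt
    · omega
  have hge : Nat.card Kˣ ≤ Nat.card R := by
    calc Nat.card Kˣ ≤ 2 * Nat.card φ.range := hcard
      _ ≤ k * Nat.card φ.range := Nat.mul_le_mul_right _ hk2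
      _ = Nat.card R := by rw [hk, mul_comm]
  exact Subgroup.eq_top_of_card_eq R (le_antisymm (Nat.le_of_dvd hpos hdvd2) hge)

section card

variable [CharP K 3] {e : ℕ} {σ : ↥(chevG2.group K) →* ↥(chevG2.group K)} (hσ : IsSig e σ)
  (hF : ∀ x : K, (x ^ e) ^ (3 * e) = x) (hadd : ∀ x y : K, (x + y) ^ e = x ^ e + y ^ e)
  (hodd : Odd e)
include hσ hF hadd hodd

/-- the injective character `H¹ → Kˣ` -/
theorem exists_H1_hom : ∃ ψ : ↥(chevG2.diagonalSubgroup K ⊓ twistedG2 K e) →* Kˣ,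
    Function.Injective ψ ∧ ∀ x, ((ψ x : Kˣ) : K) = dEnt chevG2 (x : GL chevG2.Idx K) 7 := by
  have hne : ∀ x : ↥(chevG2.diagonalSubgroup K ⊓ twistedG2 K e),
      dEnt chevG2 (x : GL chevG2.Idx K) 7 ≠ 0 := by
    intro x
    obtain ⟨d, hd, hx⟩ := diagonalSubgroup_le_gradedTorus chevG2 hG2 x.2.1
    rw [dEnt_torus chevG2 _ d hx 7 g2_lt.2.1]
    exact hd.ne_zero 7 g2_lt.2.1
  have hmul : ∀ x y : ↥(chevG2.diagonalSubgroup K ⊓ twistedG2 K e),
      dEnt chevG2 ((x * y : ↥(chevG2.diagonalSubgroup K ⊓ twistedG2 K e)) : GL chevG2.Idx K) 7 =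
        dEnt chevG2 (x : GL chevG2.Idx K) 7 * dEnt chevG2 (y : GL chevG2.Idx K) 7 := by
    intro x y
    obtain ⟨dx, hdx, hx⟩ := diagonalSubgroup_le_gradedTorus chevG2 hG2 x.2.1
    obtain ⟨dy, hdy, hy⟩ := diagonalSubgroup_le_gradedTorus chevG2 hG2 y.2.1
    rw [dEnt_torus chevG2 _ dx hx 7 g2_lt.2.1, dEnt_torus chevG2 _ dy hy 7 g2_lt.2.1,
      dEnt_torus chevG2 _ (fun s => dx s * dy s)
        (by rw [Subgroup.coe_mul, Units.val_mul, hx, hy, torus_mul_torus]) 7 g2_lt.2.1]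
  refine ⟨MonoidHom.mk' (fun x => Units.mk0 _ (hne x)) (fun x y => Units.ext (hmul x y)), ?_,
    fun x => rfl⟩
  intro x y hxy
  have h7 : dEnt chevG2 (x : GL chevG2.Idx K) 7 = dEnt chevG2 (y : GL chevG2.Idx K) 7 :=
    congrArg (fun u : Kˣ => (u : K)) hxy
  exact Subtype.ext (H1_inj hσ hF hadd hodd _ _ x.2.1 x.2.2 y.2.1 y.2.2 h7)

end card

/-- `|H¹| = q - 1` -/
theorem H1_card [Fintype K] (m : ℕ) (hK : Fintype.card K = 3 ^ (2 * m + 1)) :
    Nat.card ↥(chevG2.diagonalSubgroup K ⊓ twistedG2 K (3 ^ m)) = 3 ^ (2 * m + 1) - 1 := by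
  have : CharP K 3 := charP_three (by omega) hK
  have : Fact (Nat.Prime 3) := ⟨Nat.prime_three⟩
  obtain ⟨σ, hσ⟩ := exists_sig m hK
  obtain ⟨hF, hadd, hsub, hodd⟩ := field_facts m hK
  obtain ⟨ψ, hinj, hψ⟩ := exists_H1_hom hσ hF hadd hodd
  have he1 : 1 ≤ 3 ^ m := Nat.one_le_pow _ _ (by norm_num)
  have htop : ψ.range = ⊤ := by
    apply units_top m hK
    · intro t
      obtain ⟨x, hxH, hxG, hx7⟩ := At_mem (3 ^ m) hodd (iterateFrobenius K 3 m) (fun t => rfl)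
        (t : K) t.ne_zero
      have hmem : (t ^ (3 ^ m - 1))⁻¹ ∈ ψ.range := by
        refine ⟨⟨x, hxH, hxG⟩, Units.ext ?_⟩
        rw [hψ]
        show dEnt chevG2 x 7 = _
        rw [hx7]
        have e1 : (t : Kˣ) ^ 3 ^ m = t ^ (3 ^ m - 1) * t := by
          rw [← pow_succ, Nat.sub_add_cancel he1]
        have e2 : ((t ^ (3 ^ m - 1))⁻¹ : Kˣ) = t * (t ^ 3 ^ m)⁻¹ := by
          rw [e1, _root_.mul_inv_rev, mul_inv_cancel_left]
        rw [e2]
        simp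
      have := Subgroup.inv_mem _ hmem
      rwa [inv_inv] at this
    · obtain ⟨x, hxH, hxG, hx7⟩ := h0_mem (K := K) (3 ^ m) hodd
      refine ⟨⟨x, hxH, hxG⟩, Units.ext ?_⟩
      rw [hψ]
      show dEnt chevG2 x 7 = _
      rw [hx7]
      rfl
  have hsurj : Function.Surjective ψ := MonoidHom.range_eq_top.1 htop
  rw [Nat.card_congr (Equiv.ofBijective ψ ⟨hinj, hsurj⟩), Nat.card_units,
    Nat.card_eq_fintype_card, hK]

end Cfsg.Agent.Lib.Helper27.Ree
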