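import Mathlib
import Cfsg.Agent.Lib.Helper27.ReeH

/-!
# The small Ree groups `²G₂`: the elements of odd order of `H¹`

`H¹` is cyclic of order `q - 1 = 2 (odd)`, so it has `(q - 1)/2` elements of odd order; a
non-trivial one centralises no non-trivial element of `U¹`.
-/

set_option autoImplicit false

namespace Cfsg.Agent.Lib.Helper27.Ree

open Cfsg.Lie Cfsg.Agent.Lib.Helper24 Matrix

variable {K : Type*} [Field K]

theorem g2_cent_c : ((9 : ℕ), (2 : ℕ), (1 : ℤ)) ∈ cent chevG2 7 6 := by decide +kernel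
theorem g2_cent_d : ((10 : ℕ), (3 : ℕ), (1 : ℤ)) ∈ cent chevG2 7 6 := by decide +kernel
theorem g2_cent_e : ((11 : ℕ), (1 : ℕ), (1 : ℤ)) ∈ cent chevG2 6 10 := by decide +kernel

theorem dEnt_one : dEnt chevG2 (1 : GL chevG2.Idx K) 7 = 1 := by
  unfold dEnt
  rw [dif_pos g2_lt.2.1]
  simp

/-- the number of elements of odd order in a cyclic group of order `2k`, `k` odd -/
theorem odd_count {G : Type*} [Group G] [Finite G] [IsCyclic G] (k : ℕ) (hk : Odd k)
    (hcard : Nat.card G = 2 * k) : Nat.card {h : G // Odd (orderOf h)} = k := by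
  have e : ∀ h : G, Odd (orderOf h) ↔ h ^ k = 1 := by
    intro h
    constructor
    · intro ho
      have hdvd : orderOf h ∣ 2 * k := by
        rw [← hcard]
        exact orderOf_dvd_natCard h
      have hcop : Nat.Coprime (orderOf h) 2 := (Nat.coprime_two_left.2 ho).symm
      exact orderOf_dvd_iff_pow_eq_one.1 (hcop.dvd_of_dvd_mul_left hdvd)
    · intro hk1
      exact Odd.of_dvd_nat hk (orderOf_dvd_of_pow_eq_one hk1)
  rw [Nat.card_congr (Equiv.subtypeEquivRight e)]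
  exact card_pow_eq_one_of_dvd k (by rw [hcard]; exact Dvd.intro_left 2 rfl)

section fix

variable [CharP K 3] {e : ℕ} {σ : ↥(chevG2.group K) →* ↥(chevG2.group K)} (hσ : IsSig e σ)
  (hF : ∀ x : K, (x ^ e) ^ (3 * e) = x) (hadd : ∀ x y : K, (x + y) ^ e = x ^ e + y ^ e)
  (hodd : Odd e)
include hσ hF hadd hodd

/-- a non-trivial element of odd order of `H¹` centralises no non-trivial element of `U¹` -/
theorem H1_fixfree (hsub : ∀ x y : K, (x - y) ^ e = x ^ e - y ^ e) (h : GL chevG2.Idx K)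
    (hh : h ∈ chevG2.diagonalSubgroup K ⊓ twistedG2 K e) (h1 : h ≠ 1) (ho : Odd (orderOf h)) :
    (chevG2.posUnipotent K ⊓ twistedG2 K e) ⊓ Subgroup.centralizer {h} = ⊥ := by
  have he : e ≠ 0 := by
    rintro rfl
    exact absurd hodd (by decide)
  rw [eq_bot_iff]
  rintro g ⟨hgU, hgc⟩
  rw [Subgroup.mem_bot]
  obtain ⟨d, hd, hx, h6⟩ := H1_char hσ hF hadd hodd h hh.1 hh.2
  obtain ⟨t, u, v, hg⟩ := (U1_iff hσ hF hadd hodd hsub g).1 hgU
  have eg : g = wGL chevG2 hG2 (u6 t (t ^ e) (u ^ e) (v ^ e) (u + (t ^ e) ^ 3 * t)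
      (v + (t ^ e) ^ 3 * t ^ 2)) := by
    rw [← reeU_nf]
    exact Units.ext (by rw [hg, wGL_val])
  have hcomm : h * g = g * h := (Subgroup.mem_centralizer_iff.1 hgc) h (Set.mem_singleton h)
  rw [eg] at hcomm
  have e1 := wGL_scaled_of_commute chevG2 hG2 h d hd hx _ (by
    intro p hp
    simp only [u6, List.mem_cons, List.not_mem_nil, or_false] at hp
    rcases hp with rfl | rfl | rfl | rfl | rfl | rfl
    · exact g2_lt.1
    · exact g2_lt.2.1
    · exact g2_lt.2.2.1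
    · exact g2_lt.2.2.2.1
    · exact g2_lt.2.2.2.2.1
    · exact g2_lt.2.2.2.2.2) hcomm
  have e2 : wGL chevG2 hG2 (u6 (d 6 * t) (d 7 * t ^ e) (d 8 * u ^ e) (d 9 * v ^ e)
      (d 10 * (u + (t ^ e) ^ 3 * t)) (d 11 * (v + (t ^ e) ^ 3 * t ^ 2))) =
      wGL chevG2 hG2 (u6 t (t ^ e) (u ^ e) (v ^ e) (u + (t ^ e) ^ 3 * t)
        (v + (t ^ e) ^ 3 * t ^ 2)) := e1
  obtain ⟨i6, -, i8, i9, i10, i11⟩ := u6_inj _ _ _ _ _ _ _ _ _ _ _ _ e2
  have cancel : ∀ x y : K, x * y = y → y ≠ 0 → x = 1 := fun x y hxy hy => by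
    have : x * y = 1 * y := by rw [one_mul]; exact hxy
    exact mul_right_cancel₀ hy this
  have hcontra : d 7 = 1 → False := fun h7 =>
    h1 (torus_eq_one_of_simple chevG2 hG2 h d hd hx (by
      intro i hi
      rw [g2_rank] at hi
      interval_cases i
      · rw [g2_simple.1]; exact h7
      · rw [g2_simple.2, h6, h7, one_pow]))
  have c8 : d 8 = d 6 * d 7 ^ 1 := hd.chain 7 g2_lt.2.1 6 _ g2_cent_b
  have c9 : d 9 = d 6 * d 7 ^ 2 := hd.chain 7 g2_lt.2.1 6 _ g2_cent_c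
  have c10 : d 10 = d 6 * d 7 ^ 3 := hd.chain 7 g2_lt.2.1 6 _ g2_cent_d
  have c11 : d 11 = d 10 * d 6 ^ 1 := hd.chain 6 g2_lt.1 10 _ g2_cent_e
  by_cases ht : t = 0
  · subst ht
    simp only [mul_zero, add_zero, zero_pow he, zero_pow (two_ne_zero), zero_pow (three_ne_zero)]
      at i10 i11
    by_cases hu : u = 0
    · by_cases hv : v = 0
      · rw [eg, hu, hv, u6_val]
        simp [zero_pow he, xGL_zero]
      · exfalso
        apply hcontra
        have d9 := cancel _ _ i9 (pow_ne_zero e hv)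
        have d11 := cancel _ _ i11 hv
        have hx1 : d 6 ^ 2 * d 7 ^ 3 = 1 := by rw [← d11, c11, c10]; ring
        have hx2 : d 6 ^ 2 * d 7 ^ 4 = 1 := by
          have : (d 9) ^ 2 = 1 := by rw [d9, one_pow]
          rw [c9] at this
          rw [← this]; ring
        calc d 7 = d 7 * (d 6 ^ 2 * d 7 ^ 3) := by rw [hx1, mul_one]
          _ = d 6 ^ 2 * d 7 ^ 4 := by ring
          _ = 1 := hx2
    · exfalso
      have d8 := cancel _ _ i8 (pow_ne_zero e hu)
      have d10 := cancel _ _ i10 hu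
      have hx1 : d 6 * d 7 = 1 := by rw [← d8, c8, pow_one]
      have hx2 : d 6 * d 7 ^ 3 = 1 := by rw [← d10, c10]
      have hsq : d 7 ^ 2 = 1 := by
        calc d 7 ^ 2 = d 7 ^ 2 * (d 6 * d 7) := by rw [hx1, mul_one]
          _ = d 6 * d 7 ^ 3 := by ring
          _ = 1 := hx2
      have hh2 : h * h = 1 :=
        H1_inj hσ hF hadd hodd (h * h) 1 (Subgroup.mul_mem _ hh.1 hh.1)
          (Subgroup.mul_mem _ hh.2 hh.2) (Subgroup.one_mem _) (Subgroup.one_mem _)
          (by rw [dEnt_one, dEnt_torus chevG2 (h * h) (fun s => d s * d s)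
            (by rw [Units.val_mul, hx, torus_mul_torus]) 7 g2_lt.2.1, ← sq, hsq])
      have hdvd : orderOf h ∣ 2 := orderOf_dvd_of_pow_eq_one (by rw [sq]; exact hh2)
      have ho1 : orderOf h = 1 := by
        rcases (Nat.dvd_prime Nat.prime_two).1 hdvd with h' | h'
        · exact h'
        · rw [h'] at ho
          exact absurd ho (by decide)
      exact h1 (orderOf_eq_one_iff.1 ho1)
  · exfalso
    apply hcontra
    have d6 := cancel _ _ i6 ht
    have h3 : d 7 ^ (3 * e) = 1 := by rw [← h6]; exact d6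
    calc d 7 = (d 7 ^ e) ^ (3 * e) := (hF _).symm
      _ = (d 7 ^ (3 * e)) ^ e := by rw [← pow_mul, ← pow_mul, mul_comm]
      _ = 1 := by rw [h3, one_pow]

end fix

/-- `H¹` has `(q - 1)/2` elements of odd order, and they act fixed-point-freely on `U¹` -/
theorem H1_odd [Fintype K] (m : ℕ) (hK : Fintype.card K = 3 ^ (2 * m + 1)) :
    2 * Nat.card {h : ↥(chevG2.diagonalSubgroup K ⊓ twistedG2 K (3 ^ m)) // Odd (orderOf h)} =
        3 ^ (2 * m + 1) - 1 ∧
      ∀ h ∈ (chevG2.diagonalSubgroup K ⊓ twistedG2 K (3 ^ m)), h ≠ 1 → Odd (orderOf h) →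
        (chevG2.posUnipotent K ⊓ twistedG2 K (3 ^ m)) ⊓ Subgroup.centralizer {h} = ⊥ := by
  have : CharP K 3 := charP_three (by omega) hK
  obtain ⟨σ, hσ⟩ := exists_sig m hK
  obtain ⟨hF, hadd, hsub, hodd⟩ := field_facts m hK
  have hcyc : IsCyclic ↥(chevG2.diagonalSubgroup K ⊓ twistedG2 K (3 ^ m)) :=
    H1_cyclic hσ hF hadd hodd
  have hcard := H1_card m hK
  constructor
  · have h4 : 3 ^ (2 * m + 1) % 4 = 3 := by
      rw [pow_succ, pow_mul, Nat.mul_mod, Nat.pow_mod]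
      norm_num
    have hk : Odd ((3 ^ (2 * m + 1) - 1) / 2) := by
      rw [Nat.odd_iff]
      omega
    rw [odd_count ((3 ^ (2 * m + 1) - 1) / 2) hk (by rw [hcard]; omega)]
    omega
  · intro h hh h1 ho
    exact H1_fixfree hσ hF hadd hodd hsub h hh h1 ho

end Cfsg.Agent.Lib.Helper27.Ree
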