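import Mathlib
import Cfsg.Agent.Lib.Helper18.CTDefs

/-! Project CT (helper18; S4699), piece `TAU4A` (backup copy by helper27): an element of the
normaliser of the cyclic Sylow subgroup `P = ⟨x⟩` that acts on `x` by a power `c ≡ 1 (mod p)`
centralises `x`. -/

set_option autoImplicit false

namespace Cfsg.Agent.Lib.Helper18.CT

variable {G : Type*} [Group G] {F : Type*} [Field F] {V : Type*} [AddCommGroup V] [Module F V]

theorem tau4ab_conj_pow (x k : G) (c : ℕ) (hc : k * x * k⁻¹ = x ^ c) (j : ℕ) :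
    k ^ j * x * (k ^ j)⁻¹ = x ^ (c ^ j) := by
  induction j with
  | zero => simp
  | succ j ih =>
    have h1 : k ^ (j + 1) * x * (k ^ (j + 1))⁻¹ = k * (k ^ j * x * (k ^ j)⁻¹) * k⁻¹ := by
      rw [pow_succ']
      group
    have h2 : k * x ^ (c ^ j) * k⁻¹ = (k * x * k⁻¹) ^ (c ^ j) := (conj_pow).symm
    rw [h1, ih, h2, hc, ← pow_mul, pow_succ']

-- piece TAU4A
theorem conj_pow_trivial [Finite G] (p : ℕ) [Fact p.Prime] (P : Sylow p G) (x : G)
    (hx : Subgroup.zpowers x = (P : Subgroup G)) (n : ℕ) (hord : orderOf x = p ^ n)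
    (k : G) (hk : k ∈ Subgroup.normalizer ((P : Subgroup G) : Set G)) (c : ℕ)
    (hc : k * x * k⁻¹ = x ^ c) (hc1 : c % p = 1 % p) : k * x * k⁻¹ = x := by
  have hp : p.Prime := Fact.out
  rcases Nat.eq_zero_or_pos n with hn | hn
  · subst hn
    rw [pow_zero, orderOf_eq_one_iff] at hord
    rw [hord]
    group
  obtain ⟨n', rfl⟩ : ∃ n', n = n' + 1 := ⟨n - 1, by omega⟩
  have hkM : k ^ ((P : Subgroup G).relIndex (Subgroup.normalizer ((P : Subgroup G) : Set G))) ∈
      (P : Subgroup G) := by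
    have h1 := Subgroup.pow_index_mem
      ((P : Subgroup G).subgroupOf (Subgroup.normalizer ((P : Subgroup G) : Set G))) ⟨k, hk⟩
    rw [Subgroup.mem_subgroupOf] at h1
    exact h1
  have hpM : ¬ p ∣ (P : Subgroup G).relIndex (Subgroup.normalizer ((P : Subgroup G) : Set G)) := by
    intro hdvd
    have h1 : (P : Subgroup G).relIndex (Subgroup.normalizer ((P : Subgroup G) : Set G)) ∣
        (P : Subgroup G).index := Subgroup.relIndex_dvd_index_of_le Subgroup.le_normalizer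
    exact P.not_dvd_index (hdvd.trans h1)
  generalize (P : Subgroup G).relIndex (Subgroup.normalizer ((P : Subgroup G) : Set G)) = M
    at hkM hpM
  have hcomm : k ^ M * x * (k ^ M)⁻¹ = x := by
    rw [← hx] at hkM
    obtain ⟨i, hi⟩ := Subgroup.mem_zpowers_iff.mp hkM
    rw [← hi]
    have h1 : Commute (x ^ i) x := (Commute.refl x).zpow_left i
    rw [h1.eq, mul_inv_cancel_right]
  have h1 : x ^ (c ^ M) = x ^ 1 := by
    rw [← tau4ab_conj_pow x k c hc M, hcomm, pow_one]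
  have h2 : c ^ M ≡ 1 [MOD p ^ (n' + 1)] := by
    rw [← hord]
    exact pow_eq_pow_iff_modEq.mp h1
  have hz1 : ((c : ℕ) : ZMod (p ^ (n' + 1))) ^ M = 1 := by
    have h3 := (ZMod.natCast_eq_natCast_iff _ _ _).mpr h2
    push_cast at h3
    exact h3
  have hz2 : ((c : ℕ) : ZMod (p ^ (n' + 1))) ^ (p ^ n') = 1 := by
    have hd : (p : ℤ) ∣ (c : ℤ) - 1 := by
      have h3 : 1 ≡ c [MOD p] := Nat.ModEq.symm hc1
      have h4 := Nat.modEq_iff_dvd.mp h3
      simpa using h4
    have h4 := dvd_sub_pow_of_dvd_sub hd n'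
    rw [one_pow] at h4
    have h5 : ((((c : ℤ) ^ p ^ n' - 1 : ℤ)) : ZMod (p ^ (n' + 1))) = 0 := by
      rw [ZMod.intCast_zmod_eq_zero_iff_dvd]
      push_cast
      exact h4
    push_cast at h5
    exact sub_eq_zero.mp h5
  have hcop : Nat.Coprime M (p ^ n') :=
    Nat.Coprime.pow_right _ ((Nat.Prime.coprime_iff_not_dvd hp).mpr hpM).symm
  have hz3 : ((c : ℕ) : ZMod (p ^ (n' + 1))) = 1 := by
    have h3 := pow_gcd_eq_one.mpr ⟨hz1, hz2⟩
    rw [Nat.Coprime.gcd_eq_one hcop, pow_one] at h3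
    exact h3
  have h6 : c ≡ 1 [MOD p ^ (n' + 1)] := by
    apply (ZMod.natCast_eq_natCast_iff _ _ _).mp
    rw [hz3, Nat.cast_one]
  have h7 : x ^ c = x ^ 1 := by
    rw [pow_eq_pow_iff_modEq, hord]
    exact h6
  rw [hc, h7, pow_one]

end Cfsg.Agent.Lib.Helper18.CT
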