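import Mathlib

/-!
# Groups with a fixity-two action have no nilpotent minimal cover (abstract part)

`Hyp G Ω`: the finite set `Ω` has odd size, three-point stabilisers are trivial, two-point
stabilisers consist of elements of odd order, every point is fixed by an involution, some pair
of points is fixed by a non-identity element and no point is fixed by the whole group.
(These hold for `Sz(q)` on its ovoid.)

Main results: `Hyp.fix_of_commute` (an element commuting with a non-identity element `g` fixes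
every fixed point of `g`), `Hyp.not_minimal` (no minimal cover by proper subgroups is nilpotent).
-/

set_option autoImplicit false

namespace Cfsg.Agent.Lib.Helper27.NilCover

/-- hypotheses on a permutation action -/
structure Hyp (G Ω : Type*) [Group G] [MulAction G Ω] [Fintype Ω] : Prop where
  odd : Odd (Fintype.card Ω)
  three : ∀ (g : G) (a b c : Ω), a ≠ b → a ≠ c → b ≠ c → g • a = a → g • b = b → g • c = c →
    g = 1
  two : ∀ (g : G) (a b : Ω), a ≠ b → g • a = a → g • b = b → Odd (orderOf g)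
  ex_two : ∃ a b : Ω, a ≠ b ∧ ∃ g : G, g ≠ 1 ∧ g • a = a ∧ g • b = b
  ex_one : ∀ a : Ω, ∃ g : G, orderOf g = 2 ∧ g • a = a
  moved : ∀ a : Ω, ∃ g : G, g • a ≠ a

variable {G Ω : Type*} [Group G] [MulAction G Ω] [Fintype Ω]

omit [Fintype Ω] in
theorem pow_smul_fixed {g : G} {a : Ω} (h : g • a = a) (j : ℕ) : (g ^ j) • a = a := by
  induction j with
  | zero => rw [pow_zero, one_smul]
  | succ j ih => rw [pow_succ, mul_smul, h, ih]

/-- an element commuting with a non-identity element `g` fixes every fixed point of `g` -/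
theorem Hyp.fix_of_commute (h : Hyp G Ω) {g z : G} (hg : g ≠ 1) (hc : Commute g z) {a : Ω}
    (ha : g • a = a) : z • a = a := by
  by_contra hza
  have hgb : g • (z • a) = z • a := by
    rw [← mul_smul, hc.eq, mul_smul, ha]
  have hab : a ≠ z • a := fun e => hza e.symm
  have hzb : z • (z • a) = a := by
    have h1 : g • (z • (z • a)) = z • (z • a) := by rw [← mul_smul, hc.eq, mul_smul, hgb]
    by_contra hne
    have h2 : z • (z • a) ≠ z • a := fun e => hab (smul_left_cancel z e).symm
    exact hg (h.three g a (z • a) (z • (z • a)) hab (Ne.symm hne) (Ne.symm h2) ha hgb h1)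
  have hz2a : (z ^ 2) • a = a := by rw [pow_two, mul_smul, hzb]
  have hz2b : (z ^ 2) • (z • a) = z • a := by rw [pow_two, mul_smul, hzb]
  obtain ⟨j, hj⟩ := h.two (z ^ 2) a (z • a) hab hz2a hz2b
  have hi2 : (z ^ (2 * j + 1)) ^ 2 = 1 := by
    rw [← pow_mul, mul_comm, pow_mul, ← hj, pow_orderOf_eq_one]
  have hia : (z ^ (2 * j + 1)) • a = z • a := by
    rw [pow_succ, mul_smul, pow_mul]
    exact pow_smul_fixed hz2b j
  have hi1 : z ^ (2 * j + 1) ≠ 1 := by
    intro e
    rw [e, one_smul] at hia
    exact hab hia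
  have hib : (z ^ (2 * j + 1)) • (z • a) = a := by
    rw [← hia, ← mul_smul, ← pow_two, hi2, one_smul]
  have hord : orderOf (z ^ (2 * j + 1)) = 2 := orderOf_eq_prime hi2 hi1
  -- the involution has a fixed point
  obtain ⟨c, hc'⟩ : ∃ c : Ω, (z ^ (2 * j + 1)) • c = c := by
    have : Fact (Nat.Prime 2) := ⟨Nat.prime_two⟩
    have hnd : ¬ 2 ∣ Fintype.card Ω := fun hd => (Nat.not_even_iff_odd.2 h.odd)
      (even_iff_two_dvd.2 hd)
    have hσ : (MulAction.toPerm (z ^ (2 * j + 1)) : Equiv.Perm Ω) ^ 2 ^ 1 = 1 := by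
      ext x
      rw [pow_one, pow_two, Equiv.Perm.mul_apply, MulAction.toPerm_apply, MulAction.toPerm_apply,
        ← mul_smul, ← pow_two, hi2, one_smul, Equiv.Perm.one_apply]
    obtain ⟨c, hc⟩ := Equiv.Perm.exists_fixed_point_of_prime hnd hσ
    exact ⟨c, hc⟩
  have hgc : g • c = c := by
    by_contra hne
    have h1 : (z ^ (2 * j + 1)) • (g • c) = g • c := by
      rw [← mul_smul, ← (hc.pow_right (2 * j + 1)).eq, mul_smul, hc']
    have h2 := h.two (z ^ (2 * j + 1)) c (g • c) (Ne.symm hne) hc' h1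
    rw [hord] at h2
    exact absurd h2 (by decide)
  have hca : a ≠ c := by
    intro e
    rw [← e, hia] at hc'
    exact hab hc'.symm
  have hcb : z • a ≠ c := by
    intro e
    rw [← e, hib] at hc'
    exact hab hc'
  exact hg (h.three g a (z • a) c hab hca hcb ha hgb hgc)

/-- in a nilpotent subgroup all non-identity elements have the same fixed points -/
theorem Hyp.fix_of_nilpotent (h : Hyp G Ω) (A : Subgroup G) (hA : Group.IsNilpotent ↥A)
    {x y : G} (hx : x ∈ A) (hy : y ∈ A) (hx1 : x ≠ 1) (_hy1 : y ≠ 1) (a : Ω)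
    (hxa : x • a = a) : y • a = a := by
  have : Nontrivial ↥A := ⟨⟨⟨x, hx⟩, 1, fun e => hx1 (congrArg Subtype.val e)⟩⟩
  have hne := Group.IsNilpotent.center_ne_bot (G := ↥A)
  obtain ⟨z, hz⟩ := (Subgroup.ne_bot_iff_exists_ne_one (H := Subgroup.center ↥A)).1 hne
  have hzc := Subgroup.mem_center_iff.1 z.2
  have hz1' : z.1.1 ≠ 1 := by
    intro e
    apply hz
    apply Subtype.ext
    apply Subtype.ext
    exact e
  have c1 : Commute x z.1.1 := by
    have := hzc ⟨x, hx⟩
    exact congrArg Subtype.val this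
  have c2 : Commute z.1.1 y := by
    have := hzc ⟨y, hy⟩
    exact (congrArg Subtype.val this).symm
  have hza : z.1.1 • a = a := h.fix_of_commute hx1 c1 hxa
  exact h.fix_of_commute hz1' c2 hza

open Classical in
/-- no nilpotent cover by proper subgroups is minimal -/
theorem Hyp.not_minimal (h : Hyp G Ω) :
    ¬ ∃ 𝓐 : Finset (Subgroup G), ((∀ A ∈ 𝓐, A ≠ ⊤) ∧ (∀ g : G, ∃ A ∈ 𝓐, g ∈ A)) ∧
      (∀ 𝓑 : Finset (Subgroup G), (∀ A ∈ 𝓑, A ≠ ⊤) ∧ (∀ g : G, ∃ A ∈ 𝓑, g ∈ A) →
        𝓐.card ≤ 𝓑.card) ∧ (∀ A ∈ 𝓐, Group.IsNilpotent ↥A) := by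
  rintro ⟨𝓐, ⟨hprop, hcov⟩, hmin, hnil⟩
  -- the members containing a fixed-point-free element
  set P : Subgroup G → Prop := fun A => ∃ x ∈ A, ∀ a : Ω, x • a ≠ a with hP
  set 𝓑 : Finset (Subgroup G) :=
    𝓐.filter P ∪ Finset.univ.image (fun a : Ω => MulAction.stabilizer G a) with h𝓑
  have hΩ : Nonempty Ω := by
    rcases h.ex_two with ⟨a, -⟩
    exact ⟨a⟩
  have hB : (∀ A ∈ 𝓑, A ≠ ⊤) ∧ (∀ g : G, ∃ A ∈ 𝓑, g ∈ A) := by
    constructor
    · intro A hA
      rcases Finset.mem_union.1 hA with hA | hA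
      · exact hprop A (Finset.mem_filter.1 hA).1
      · obtain ⟨a, -, rfl⟩ := Finset.mem_image.1 hA
        obtain ⟨g, hg⟩ := h.moved a
        intro e
        have : g ∈ MulAction.stabilizer G a := by rw [e]; exact Subgroup.mem_top g
        exact hg (MulAction.mem_stabilizer_iff.1 this)
    · intro g
      by_cases hfix : ∃ a : Ω, g • a = a
      · obtain ⟨a, ha⟩ := hfix
        exact ⟨MulAction.stabilizer G a, Finset.mem_union_right _
          (Finset.mem_image.2 ⟨a, Finset.mem_univ _, rfl⟩), MulAction.mem_stabilizer_iff.2 ha⟩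
      · have hfix' : ∀ a : Ω, g • a ≠ a := fun a ha => hfix ⟨a, ha⟩
        obtain ⟨A, hA, hgA⟩ := hcov g
        exact ⟨A, Finset.mem_union_left _ (Finset.mem_filter.2 ⟨hA, g, hgA, hfix'⟩), hgA⟩
  have hle := hmin 𝓑 hB
  have hcardB : 𝓑.card ≤ (𝓐.filter P).card + Fintype.card Ω := by
    refine (Finset.card_union_le _ _).trans ?_
    exact Nat.add_le_add_left (Finset.card_image_le.trans (le_of_eq Finset.card_univ)) _
  -- many members without fixed-point-free elements
  have hsplit := Finset.card_filter_add_card_filter_not (s := 𝓐) P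
  have hmany : Fintype.card Ω + 1 ≤ (𝓐.filter (fun A => ¬ P A)).card := by
    choose t ht using h.ex_one
    choose At hAt using fun a : Ω => hcov (t a)
    obtain ⟨a₀, b₀, hab, g₀, hg₀, hga, hgb⟩ := h.ex_two
    obtain ⟨A₀, hA₀, hgA₀⟩ := hcov g₀
    have ht1 : ∀ a, t a ≠ 1 := by
      intro a e
      have := (ht a).1
      rw [e, orderOf_one] at this
      exact absurd this (by decide)
    let f : Option Ω → Subgroup G := fun o => o.elim A₀ At
    have hmaps : ∀ o ∈ (Finset.univ : Finset (Option Ω)), f o ∈ 𝓐.filter (fun A => ¬ P A) := by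
      intro o _
      cases o with
      | none =>
        refine Finset.mem_filter.2 ⟨hA₀, ?_⟩
        rintro ⟨x, hx, hxf⟩
        have hx1 : x ≠ 1 := by
          intro e
          exact hxf a₀ (by rw [e, one_smul])
        exact hxf a₀ (h.fix_of_nilpotent A₀ (hnil A₀ hA₀) hgA₀ hx hg₀ hx1 a₀ hga)
      | some a =>
        refine Finset.mem_filter.2 ⟨(hAt a).1, ?_⟩
        rintro ⟨x, hx, hxf⟩
        have hx1 : x ≠ 1 := by
          intro e
          exact hxf a (by rw [e, one_smul])
        exact hxf a (h.fix_of_nilpotent (At a) (hnil _ (hAt a).1) (hAt a).2 hx (ht1 a) hx1 a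
          (ht a).2)
    have hinj : Set.InjOn f (Finset.univ : Finset (Option Ω)) := by
      have key : ∀ a b : Ω, ∀ A : Subgroup G, A ∈ 𝓐 → t a ∈ A → ∀ y ∈ A, y ≠ 1 → y • b = b →
          a = b := by
        intro a b A hA hta y hy hy1 hyb
        by_contra hne
        have h1 : t a • b = b := h.fix_of_nilpotent A (hnil A hA) hy hta hy1 (ht1 a) b hyb
        have h2 := h.two (t a) a b hne (ht a).2 h1
        rw [(ht a).1] at h2
        exact absurd h2 (by decide)
      intro o _ o' _ heq
      cases o with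
      | none =>
        cases o' with
        | none => rfl
        | some a =>
          exfalso
          have e : A₀ = At a := heq
          have e1 := key a a₀ A₀ hA₀ (e ▸ (hAt a).2) g₀ hgA₀ hg₀ hga
          have e2 := key a b₀ A₀ hA₀ (e ▸ (hAt a).2) g₀ hgA₀ hg₀ hgb
          exact hab (e1.symm.trans e2)
      | some a =>
        cases o' with
        | none =>
          exfalso
          have e : At a = A₀ := heq
          have e1 := key a a₀ A₀ hA₀ (e ▸ (hAt a).2) g₀ hgA₀ hg₀ hga
          have e2 := key a b₀ A₀ hA₀ (e ▸ (hAt a).2) g₀ hgA₀ hg₀ hgb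
          exact hab (e1.symm.trans e2)
        | some b =>
          have e : At a = At b := heq
          have := key a b (At b) (hAt b).1 (e ▸ (hAt a).2) (t b) (hAt b).2 (ht1 b) (ht b).2
          rw [this]
    have := Finset.card_le_card_of_injOn f hmaps hinj
    rwa [Finset.card_univ, Fintype.card_option] at this
  omega

/-- the hypotheses transfer along an isomorphism of the acting group -/
theorem Hyp.of_equiv {G' : Type*} [Group G'] (e : G' ≃* G) (h : Hyp G Ω) :
    @Hyp G' Ω _ (MulAction.compHom Ω e.toMonoidHom) _ := by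
  letI : MulAction G' Ω := MulAction.compHom Ω e.toMonoidHom
  have hs : ∀ (g : G') (a : Ω), g • a = e g • a := fun g a => rfl
  refine { odd := h.odd, three := ?_, two := ?_, ex_two := ?_, ex_one := ?_, moved := ?_ }
  · intro g a b c hab hac hbc fa fb fc
    rw [hs] at fa fb fc
    have := h.three (e g) a b c hab hac hbc fa fb fc
    exact e.injective (this.trans (map_one e).symm)
  · intro g a b hab fa fb
    rw [hs] at fa fb
    have := h.two (e g) a b hab fa fb
    rwa [MulEquiv.orderOf_eq] at this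
  · obtain ⟨a, b, hab, g, hg, ga, gb⟩ := h.ex_two
    refine ⟨a, b, hab, e.symm g, ?_, ?_, ?_⟩
    · intro e1
      apply hg
      have := congrArg e e1
      rwa [MulEquiv.apply_symm_apply, map_one] at this
    · rw [hs, MulEquiv.apply_symm_apply]
      exact ga
    · rw [hs, MulEquiv.apply_symm_apply]
      exact gb
  · intro a
    obtain ⟨g, hg, ga⟩ := h.ex_one a
    refine ⟨e.symm g, ?_, ?_⟩
    · rw [MulEquiv.orderOf_eq]
      exact hg
    · rw [hs, MulEquiv.apply_symm_apply]
      exact ga
  · intro a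
    obtain ⟨g, hg⟩ := h.moved a
    refine ⟨e.symm g, ?_⟩
    rw [hs, MulEquiv.apply_symm_apply]
    exact hg

end Cfsg.Agent.Lib.Helper27.NilCover
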