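import Mathlib
import Cfsg.Agent.Lib.Helper27.ReeOdd
import Cfsg.Agent.Lib.Helper25.ChevBruhat
import Cfsg.Agent.Lib.Helper24.TwK
import Cfsg.Agent.Lib.Helper24.TwC

/-!
# The small Ree groups `²G₂`: the monomial subgroup `N¹` and the normal form

`σ` preserves `U`, `H`, `N`, `B`; a monomial element fixed by `σ` up to `H` lies in `H` or in
`H n₀` (the elements of the Weyl group of `G₂` commuting with the graph automorphism are `±1`).
-/

set_option autoImplicit false

namespace Cfsg.Agent.Lib.Helper27.Ree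

open Cfsg.Lie Cfsg.Agent.Lib.Helper24 Matrix
open Cfsg.Agent.Lib.Helper25 (wPi wPi_lt monomial_act orb_all bruhat_exists bruhat_unique
  bruhat_step uMinus mem_sup_of_le_normalizer mem_rootSubgroup)

variable {K : Type*} [Field K]

/-! ### the Weyl group of `G₂` as permutations of the roots -/

theorem g2_nroots : chevG2.nroots = 12 := by decide +kernel

/-- the twelve elements of the Weyl group, as lists of images of the roots -/
def Wl : List (List ℕ) :=
  [[0, 1, 2, 3, 4, 5, 6, 7, 8, 9, 10, 11], [0, 5, 3, 2, 7, 1, 10, 4, 9, 8, 6, 11],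
    [1, 0, 2, 4, 3, 6, 5, 8, 7, 9, 11, 10], [1, 6, 4, 2, 8, 0, 11, 3, 9, 7, 5, 10],
    [5, 0, 3, 7, 2, 10, 1, 9, 4, 8, 11, 6], [5, 10, 7, 3, 9, 0, 11, 2, 8, 4, 1, 6],
    [6, 1, 4, 8, 2, 11, 0, 9, 3, 7, 10, 5], [6, 11, 8, 4, 9, 1, 10, 2, 7, 3, 0, 5],
    [10, 5, 7, 9, 3, 11, 0, 8, 2, 4, 6, 1], [10, 11, 9, 7, 8, 5, 6, 3, 4, 2, 0, 1],
    [11, 6, 8, 9, 4, 10, 1, 7, 2, 3, 5, 0], [11, 10, 9, 8, 7, 6, 5, 4, 3, 2, 1, 0]]

theorem Wl_step : ∀ l ∈ Wl, ∀ i < 2, l.map (chevG2.reflectRoot i) ∈ Wl := by decide +kernel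

theorem Wl_comm : ∀ l ∈ Wl, (∀ r < 12, l.getD (rho r) 0 = rho (l.getD r 0)) →
    l = [0, 1, 2, 3, 4, 5, 6, 7, 8, 9, 10, 11] ∨ l = [11, 10, 9, 8, 7, 6, 5, 4, 3, 2, 1, 0] := by
  decide +kernel

theorem Wl_id : ∀ r < 12, ([0, 1, 2, 3, 4, 5, 6, 7, 8, 9, 10, 11] : List ℕ).getD r 0 = r := by
  decide

theorem Wl_neg : ∀ r < 12,
    ([11, 10, 9, 8, 7, 6, 5, 4, 3, 2, 1, 0] : List ℕ).getD r 0 = chevG2.neg r := by decide +kernel

theorem getD_map_range (f : ℕ → ℕ) (r : ℕ) (hr : r < 12) :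
    ((List.range 12).map f).getD r 0 = f r := by
  have h : r < ((List.range 12).map f).length := by simp [hr]
  rw [List.getD_eq_getElem _ _ h]
  simp

theorem wPi_mem_Wl (L : List ℕ) (hL : ∀ i ∈ L, i < 2) :
    (List.range 12).map (wPi chevG2 L) ∈ Wl := by
  induction L with
  | nil =>
    have : (List.range 12).map (wPi chevG2 []) = [0, 1, 2, 3, 4, 5, 6, 7, 8, 9, 10, 11] := by
      decide
    rw [this]
    decide
  | cons i L ih =>
    have h := Wl_step _ (ih (fun j hj => hL j (List.mem_cons_of_mem _ hj))) i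
      (hL i List.mem_cons_self)
    rw [List.map_map] at h
    exact h

theorem wPi_cases (L : List ℕ) (hL : ∀ i ∈ L, i < 2)
    (hc : ∀ r < 12, wPi chevG2 L (rho r) = rho (wPi chevG2 L r)) :
    (∀ r < 12, wPi chevG2 L r = r) ∨ (∀ r < 12, wPi chevG2 L r = chevG2.neg r) := by
  have hm := wPi_mem_Wl L hL
  have hρ : ∀ r < 12, rho r < 12 := by decide
  rcases Wl_comm _ hm (fun r hr => by
    rw [getD_map_range _ (rho r) (hρ r hr), getD_map_range _ r hr]; exact hc r hr) with h | h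
  · left
    intro r hr
    rw [← getD_map_range (wPi chevG2 L) r hr, h]
    exact Wl_id r hr
  · right
    intro r hr
    rw [← getD_map_range (wPi chevG2 L) r hr, h]
    exact Wl_neg r hr

theorem rho_tab : ∀ r < 12, rho (chevG2.neg r) = chevG2.neg (rho r) ∧
    lam (chevG2.neg r) = lam r ∧ (chevG2.IsPosRoot r → chevG2.IsPosRoot (rho r)) ∧ rho r < 12 ∧
    chevG2.neg r < 12 ∧ chevG2.neg (chevG2.neg r) = r ∧ (lam r = 1 ∨ lam r = 3) := by
  decide +kernel

/-! ### `n₀` and all root elements -/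

theorem n0_chk5 : wEqChk chevG2 (n0s ++ [(5, 1, (0, 1))]) ([(6, -1, (0, 1))] ++ n0s) = true := by
  decide +kernel
theorem n0_chk4 : wEqChk chevG2 (n0s ++ [(4, 1, (0, 1))]) ([(7, -1, (0, 1))] ++ n0s) = true := by
  decide +kernel
theorem n0_chk3 : wEqChk chevG2 (n0s ++ [(3, 1, (0, 1))]) ([(8, -1, (0, 1))] ++ n0s) = true := by
  decide +kernel
theorem n0_chk2 : wEqChk chevG2 (n0s ++ [(2, 1, (0, 1))]) ([(9, -1, (0, 1))] ++ n0s) = true := by
  decide +kernel
theorem n0_chk1 : wEqChk chevG2 (n0s ++ [(1, 1, (0, 1))]) ([(10, -1, (0, 1))] ++ n0s) = true := by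
  decide +kernel
theorem n0_chk0 : wEqChk chevG2 (n0s ++ [(0, 1, (0, 1))]) ([(11, -1, (0, 1))] ++ n0s) = true := by
  decide +kernel

theorem n0_conj_all (s : ℕ) (hs : s < 12) (t : K) :
    n0 K * xGL chevG2 hG2 s t = xGL chevG2 hG2 (chevG2.neg s) (-t) * n0 K := by
  have hneg : chevG2.neg 0 = 11 ∧ chevG2.neg 1 = 10 ∧ chevG2.neg 2 = 9 ∧ chevG2.neg 3 = 8 ∧
      chevG2.neg 4 = 7 ∧ chevG2.neg 5 = 6 := by decide
  interval_cases s
  · rw [hneg.1]; exact n0_conj_aux 0 11 n0_chk0 t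
  · rw [hneg.2.1]; exact n0_conj_aux 1 10 n0_chk1 t
  · rw [hneg.2.2.1]; exact n0_conj_aux 2 9 n0_chk2 t
  · rw [hneg.2.2.2.1]; exact n0_conj_aux 3 8 n0_chk3 t
  · rw [hneg.2.2.2.2.1]; exact n0_conj_aux 4 7 n0_chk4 t
  · rw [hneg.2.2.2.2.2]; exact n0_conj_aux 5 6 n0_chk5 t
  · rw [g2_neg.1]; exact n0_conj_aux 6 5 n0_chk6 t
  · rw [g2_neg.2.1]; exact n0_conj_aux 7 4 n0_chk7 t
  · rw [g2_neg.2.2.1]; exact n0_conj_aux 8 3 n0_chk8 t
  · rw [g2_neg.2.2.2.1]; exact n0_conj_aux 9 2 n0_chk9 t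
  · rw [g2_neg.2.2.2.2.1]; exact n0_conj_aux 10 1 n0_chk10 t
  · rw [g2_neg.2.2.2.2.2]; exact n0_conj_aux 11 0 n0_chk11 t

theorem n0_inv_conj (s : ℕ) (hs : s < 12) (t : K) :
    (n0 K)⁻¹ * xGL chevG2 hG2 s t = xGL chevG2 hG2 (chevG2.neg s) (-t) * (n0 K)⁻¹ := by
  have h := n0_conj_all (K := K) (chevG2.neg s) (rho_tab s hs).2.2.2.2.1 (-t)
  rw [(rho_tab s hs).2.2.2.2.2.1, neg_neg] at h
  rw [inv_mul_eq_iff_eq_mul, ← mul_assoc, h, mul_inv_cancel_right]

theorem n0_sq_chk : wEqChk chevG2 (n0s ++ n0s) [] = true := by decide +kernel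

theorem n0_sq : n0 K * n0 K = 1 := by
  have key := wEq_sound (F := K) chevG2 (preChk_of_mem chevG2 hG2) _ _ n0_sq_chk 1 1 one_ne_zero
  unfold n0
  rw [← wGL_append]
  apply Units.ext
  rw [wGL_val, Units.val_one]
  simp only [n0s, wEval, List.map_cons, List.map_nil, List.cons_append, List.nil_append, evalM,
    Int.cast_one, Int.cast_neg, zpow_zero, pow_zero, mul_one] at key
  simp only [n0w, List.cons_append, List.nil_append]
  rw [key]
  rfl

/-! ### `σ` preserves the standard subgroups -/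

/-- words in the group -/
noncomputable def wG (w : List (ℕ × K)) : ↥(chevG2.group K) := ⟨wGL chevG2 hG2 w, wGL_mem_grp w⟩

/-- `σ` maps `x` into `T` -/
def SigIn (σ : ↥(chevG2.group K) →* ↥(chevG2.group K)) (x : GL chevG2.Idx K)
    (T : Subgroup (GL chevG2.Idx K)) : Prop :=
  ∃ hx : x ∈ chevG2.group K, ((σ ⟨x, hx⟩ : ↥(chevG2.group K)) : GL chevG2.Idx K) ∈ T

theorem SigIn.mono {σ : ↥(chevG2.group K) →* ↥(chevG2.group K)} {x : GL chevG2.Idx K}
    {T T' : Subgroup (GL chevG2.Idx K)} (h : SigIn σ x T) (hT : T ≤ T') : SigIn σ x T' :=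
  let ⟨hx, h'⟩ := h
  ⟨hx, hT h'⟩

theorem sig_closure (σ : ↥(chevG2.group K) →* ↥(chevG2.group K)) (S : Set (GL chevG2.Idx K))
    (T : Subgroup (GL chevG2.Idx K)) (hS : ∀ x ∈ S, SigIn σ x T) :
    ∀ u ∈ Subgroup.closure S, SigIn σ u T := by
  intro u hu
  induction hu using Subgroup.closure_induction with
  | mem x hx => exact hS x hx
  | one =>
    refine ⟨Subgroup.one_mem _, ?_⟩
    have : (⟨1, Subgroup.one_mem _⟩ : ↥(chevG2.group K)) = 1 := rfl
    rw [this, map_one]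
    exact T.one_mem
  | mul x y _ _ hx hy =>
    obtain ⟨hx1, hx2⟩ := hx
    obtain ⟨hy1, hy2⟩ := hy
    refine ⟨Subgroup.mul_mem _ hx1 hy1, ?_⟩
    have : (⟨x * y, Subgroup.mul_mem _ hx1 hy1⟩ : ↥(chevG2.group K)) = ⟨x, hx1⟩ * ⟨y, hy1⟩ := rfl
    rw [this, map_mul]
    exact T.mul_mem hx2 hy2
  | inv x _ hx =>
    obtain ⟨hx1, hx2⟩ := hx
    refine ⟨Subgroup.inv_mem _ hx1, ?_⟩
    have : (⟨x⁻¹, Subgroup.inv_mem _ hx1⟩ : ↥(chevG2.group K)) = (⟨x, hx1⟩)⁻¹ := rfl
    rw [this, map_inv]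
    exact T.inv_mem hx2

section sigma

variable {e : ℕ} {σ : ↥(chevG2.group K) →* ↥(chevG2.group K)} (hσ : IsSig e σ)
include hσ

theorem sig_wG (w : List (ℕ × K)) (hw : ∀ p ∈ w, p.1 < chevG2.nroots) :
    σ (wG w) = wG (w.map fun p => (rho p.1, p.2 ^ (lam p.1 * e))) := by
  induction w with
  | nil =>
    have : (wG ([] : List (ℕ × K))) = 1 := rfl
    rw [List.map_nil, this, map_one]
  | cons p w ih =>
    have e1 : wG (p :: w) = xG p.1 p.2 * wG w := Subtype.ext (wGL_cons chevG2 hG2 p w)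
    rw [e1, map_mul, hσ p.1 (hw p List.mem_cons_self) p.2,
      ih (fun q hq => hw q (List.mem_cons_of_mem _ hq)), List.map_cons]
    exact (Subtype.ext (wGL_cons chevG2 hG2 _ _)).symm

theorem sig_pos : ∀ u ∈ chevG2.posUnipotent K, SigIn σ u (chevG2.posUnipotent K) := by
  intro u hu
  unfold ChevalleyDatum.posUnipotent at hu
  refine sig_closure σ _ _ ?_ u hu
  rintro x ⟨r, t, hr, hx⟩
  have ex : x = xGL chevG2 hG2 r t := Units.ext (by rw [hx, xGL_val])
  subst ex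
  refine ⟨xGL_mem_group chevG2 hG2 r t, ?_⟩
  have : (⟨xGL chevG2 hG2 r t, xGL_mem_group chevG2 hG2 r t⟩ : ↥(chevG2.group K)) = xG r t := rfl
  rw [this, hσ r hr.1 t]
  have hr12 : r < 12 := by have := hr.1; rwa [g2_nroots] at this
  exact Subgroup.subset_closure ⟨rho r, _, (rho_tab r hr12).2.2.1 hr, xGL_val chevG2 hG2 _ _⟩

omit hσ in
theorem sig_hn_word (hodd : Odd e) (r : ℕ) (hr12 : r < 12) (t : K) :
    (chevG2.nWord r t).map (fun p => (rho p.1, p.2 ^ (lam p.1 * e))) =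
      chevG2.nWord (rho r) (t ^ (lam r * e)) := by
  obtain ⟨t1, t2, -, -, -, -, t7⟩ := rho_tab r hr12
  have hk : Odd (lam r * e) := by
    rcases t7 with h | h
    · rw [h, one_mul]; exact hodd
    · rw [h]; exact Odd.mul (by decide) hodd
  unfold ChevalleyDatum.nWord
  simp only [List.map_cons, List.map_nil, t1, t2, hk.neg_pow, inv_pow]

omit hσ in
theorem nWord_lt (r : ℕ) (hr12 : r < 12) (t : K) : ∀ p ∈ chevG2.nWord r t, p.1 < chevG2.nroots := by
  intro p hp
  unfold ChevalleyDatum.nWord at hp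
  simp only [List.mem_cons, List.not_mem_nil, or_false] at hp
  rw [g2_nroots]
  rcases hp with rfl | rfl | rfl
  · exact hr12
  · exact (rho_tab r hr12).2.2.2.2.1
  · exact hr12

theorem sig_diag (hodd : Odd e) :
    ∀ u ∈ chevG2.diagonalSubgroup K, SigIn σ u (chevG2.diagonalSubgroup K) := by
  intro u hu
  unfold ChevalleyDatum.diagonalSubgroup at hu
  refine sig_closure σ _ _ ?_ u hu
  rintro x ⟨r, t, hr, ht, hx⟩
  have hr12 : r < 12 := by rwa [g2_nroots] at hr
  have ex : x = wGL chevG2 hG2 (chevG2.nWord r t ++ chevG2.nWord r (-1)) :=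
    Units.ext (by rw [hx, wGL_val]; rfl)
  subst ex
  refine ⟨wGL_mem_grp _, ?_⟩
  have : (⟨wGL chevG2 hG2 (chevG2.nWord r t ++ chevG2.nWord r (-1)), wGL_mem_grp _⟩ :
      ↥(chevG2.group K)) = wG (chevG2.nWord r t ++ chevG2.nWord r (-1)) := rfl
  rw [this, sig_wG hσ _ (by
    intro p hp
    rcases List.mem_append.1 hp with h | h
    · exact nWord_lt r hr12 t p h
    · exact nWord_lt r hr12 (-1) p h), List.map_append, sig_hn_word hodd r hr12,
    sig_hn_word hodd r hr12]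
  obtain ⟨-, -, -, t4, -, -, t7⟩ := rho_tab r hr12
  have hk : Odd (lam r * e) := by
    rcases t7 with h | h
    · rw [h, one_mul]; exact hodd
    · rw [h]; exact Odd.mul (by decide) hodd
  rw [hk.neg_pow, one_pow]
  unfold ChevalleyDatum.diagonalSubgroup
  exact Subgroup.subset_closure ⟨rho r, t ^ (lam r * e), by rw [g2_nroots]; exact t4,
    pow_ne_zero _ ht, wGL_val chevG2 hG2
      (chevG2.nWord (rho r) (t ^ (lam r * e)) ++ chevG2.nWord (rho r) (-1))⟩

theorem sig_mono (hodd : Odd e) :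
    ∀ u ∈ chevG2.monomialSubgroup K, SigIn σ u (chevG2.monomialSubgroup K) := by
  intro u hu
  unfold ChevalleyDatum.monomialSubgroup at hu
  rw [Subgroup.sup_eq_closure] at hu
  refine sig_closure σ _ _ ?_ u hu
  have hle1 : chevG2.diagonalSubgroup K ≤ chevG2.monomialSubgroup K := by
    unfold ChevalleyDatum.monomialSubgroup
    exact le_sup_left
  have hle2 : Subgroup.closure {g : GL chevG2.Idx K | ∃ r : ℕ, r < chevG2.nroots ∧
      (g : Matrix chevG2.Idx chevG2.Idx K) = chevG2.nMat K r 1} ≤ chevG2.monomialSubgroup K := by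
    unfold ChevalleyDatum.monomialSubgroup
    exact le_sup_right
  rintro x (hx | hx)
  · exact (sig_diag hσ hodd x hx).mono hle1
  · refine (sig_closure σ _ _ ?_ x hx).mono hle2
    rintro y ⟨r, hr, hy⟩
    have hr12 : r < 12 := by rwa [g2_nroots] at hr
    have ex : y = wGL chevG2 hG2 (chevG2.nWord r 1) := Units.ext (by rw [hy, wGL_val]; rfl)
    subst ex
    refine ⟨wGL_mem_grp _, ?_⟩
    have : (⟨wGL chevG2 hG2 (chevG2.nWord r (1 : K)), wGL_mem_grp _⟩ : ↥(chevG2.group K)) =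
        wG (chevG2.nWord r 1) := rfl
    rw [this, sig_wG hσ _ (nWord_lt r hr12 1), sig_hn_word hodd r hr12, one_pow]
    exact Subgroup.subset_closure ⟨rho r, by rw [g2_nroots]; exact (rho_tab r hr12).2.2.2.1,
      wGL_val chevG2 hG2 (chevG2.nWord (rho r) 1)⟩

theorem sig_borel (hodd : Odd e) :
    ∀ u ∈ chevG2.borelSubgroup K, SigIn σ u (chevG2.borelSubgroup K) := by
  intro u hu
  unfold ChevalleyDatum.borelSubgroup at hu
  rw [Subgroup.sup_eq_closure] at hu
  refine sig_closure σ _ _ ?_ u hu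
  rintro x (hx | hx)
  · exact (sig_pos hσ x hx).mono (by unfold ChevalleyDatum.borelSubgroup; exact le_sup_left)
  · exact (sig_diag hσ hodd x hx).mono (by unfold ChevalleyDatum.borelSubgroup; exact le_sup_right)

/-- a monomial element fixed by `σ` modulo `H` lies in `H` or in `H n₀` -/
theorem fix_mono (n : GL chevG2.Idx K) (hn : n ∈ chevG2.monomialSubgroup K)
    (hnG : n ∈ chevG2.group K) (h' : GL chevG2.Idx K) (hh' : h' ∈ chevG2.diagonalSubgroup K)
    (hfix : ((σ ⟨n, hnG⟩ : ↥(chevG2.group K)) : GL chevG2.Idx K) = n * h') :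
    n ∈ chevG2.diagonalSubgroup K ∨ n * (n0 K)⁻¹ ∈ chevG2.diagonalSubgroup K := by
  obtain ⟨L, hL, hact⟩ := monomial_act chevG2 hG2 (orb_all chevG2 hG2) n hn
  obtain ⟨d, hd, hx⟩ := diagonalSubgroup_le_gradedTorus chevG2 hG2 hh'
  have hL2 : ∀ i ∈ L, i < 2 := fun i hi => by
    have := hL i hi
    rwa [g2_rank] at this
  have hactGL : ∀ s < chevG2.nroots, ∃ c : K, c ≠ 0 ∧ ∀ t : K,
      n * xGL chevG2 hG2 s t = xGL chevG2 hG2 (wPi chevG2 L s) (c * t) * n := by
    intro s hs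
    obtain ⟨c, hc0, hcs⟩ := hact s hs
    exact ⟨c, hc0, fun t => Units.ext (by rw [Units.val_mul, Units.val_mul, xGL_val, xGL_val]; exact hcs t)⟩
  have hdGL : ∀ s < chevG2.nroots, ∀ t : K,
      h' * xGL chevG2 hG2 s t = xGL chevG2 hG2 s (d s * t) * h' := by
    intro s hs t
    apply Units.ext
    rw [Units.val_mul, Units.val_mul, xGL_val, xGL_val, hx]
    exact torus_mul_x chevG2 d hd s hs t
  have hcomm : ∀ r < 12, wPi chevG2 L (rho r) = rho (wPi chevG2 L r) := by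
    intro r hr12
    have hr : r < chevG2.nroots := by rw [g2_nroots]; exact hr12
    obtain ⟨c, hc0, hcr⟩ := hactGL r hr
    have hρ : rho r < chevG2.nroots := rho_lt r hr
    obtain ⟨c2, hc20, hc2r⟩ := hactGL (rho r) hρ
    have hw : wPi chevG2 L r < chevG2.nroots := wPi_lt chevG2 hG2 L hL r hr
    have eG : (⟨n, hnG⟩ : ↥(chevG2.group K)) * xG r 1 =
        xG (wPi chevG2 L r) (c * 1) * ⟨n, hnG⟩ := Subtype.ext (hcr 1)
    have e2 := congrArg σ eG
    rw [map_mul, map_mul, hσ r hr, hσ _ hw] at e2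
    have e3 := congrArg (fun g : ↥(chevG2.group K) => (g : GL chevG2.Idx K)) e2
    simp only [Subgroup.coe_mul, xG_coe, hfix] at e3
    rw [mul_assoc, hdGL _ hρ, ← mul_assoc, hc2r, mul_assoc] at e3
    have e4 := mul_right_cancel e3
    have e5 := congrArg (fun g : GL chevG2.Idx K => (g : Matrix chevG2.Idx chevG2.Idx K)) e4
    simp only [xGL_val] at e5
    exact twC_x_root_inj chevG2 hG2 _ _ (wPi_lt chevG2 hG2 L hL _ hρ) (rho_lt _ hw) _ _
      (mul_ne_zero hc20 (mul_ne_zero (hd.ne_zero _ hρ) (pow_ne_zero _ one_ne_zero))) e5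
  rcases wPi_cases L hL2 hcomm with hid | hneg
  · left
    refine mono_mem_diag_of_pos chevG2 hG2 n hn L hL hact ?_
    intro i hi
    rw [g2_rank] at hi
    interval_cases i
    · rw [g2_simple.1, hid 7 (by norm_num)]; exact g2_pos.2.1
    · rw [g2_simple.2, hid 6 (by norm_num)]; exact g2_pos.1
  · right
    refine mono_mem_diag_of_pos chevG2 hG2 (n * (n0 K)⁻¹)
      (Subgroup.mul_mem _ hn (Subgroup.inv_mem _ n0_mono)) [] (by simp) ?_ ?_
    · intro s hs
      have hs12 : s < 12 := by rwa [g2_nroots] at hs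
      have hns12 : chevG2.neg s < 12 := (rho_tab s hs12).2.2.2.2.1
      have hns : chevG2.neg s < chevG2.nroots := by rw [g2_nroots]; exact hns12
      obtain ⟨c, hc0, hcr⟩ := hactGL (chevG2.neg s) hns
      refine ⟨-c, neg_ne_zero.2 hc0, fun t => ?_⟩
      have e1 : n * (n0 K)⁻¹ * xGL chevG2 hG2 s t =
          xGL chevG2 hG2 s (-c * t) * (n * (n0 K)⁻¹) := by
        rw [mul_assoc, n0_inv_conj s hs12 t, ← mul_assoc, hcr, hneg _ hns12,
          (rho_tab s hs12).2.2.2.2.2.1, mul_assoc, mul_neg, neg_mul]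
      have e2 := congrArg (fun g : GL chevG2.Idx K => (g : Matrix chevG2.Idx chevG2.Idx K)) e1
      simp only [Units.val_mul, xGL_val] at e2
      rw [Units.val_mul]
      exact e2
    · intro i hi
      rw [g2_rank] at hi
      interval_cases i
      · show chevG2.IsPosRoot (chevG2.simple 0)
        rw [g2_simple.1]; exact g2_pos.2.1
      · show chevG2.IsPosRoot (chevG2.simple 1)
        rw [g2_simple.2]; exact g2_pos.1

end sigma


/-! ### `N¹` -/

theorem n0_not_diag : n0 K ∉ chevG2.diagonalSubgroup K := by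
  intro h
  obtain ⟨d, hd, hx⟩ := diagonalSubgroup_le_gradedTorus chevG2 hG2 h
  have e1 := n0_conj_all (K := K) 6 (by norm_num) 1
  have e2 : n0 K * xGL chevG2 hG2 6 1 = xGL chevG2 hG2 6 (d 6 * 1) * n0 K :=
    Units.ext (by
      rw [Units.val_mul, Units.val_mul, xGL_val, xGL_val, hx]
      exact torus_mul_x chevG2 d hd 6 g2_lt.1 1)
  rw [e1, g2_neg.1] at e2
  have e3 := congrArg (fun g : GL chevG2.Idx K => (g : Matrix chevG2.Idx chevG2.Idx K))
    (mul_right_cancel e2)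
  simp only [xGL_val] at e3
  have := twC_x_root_inj chevG2 hG2 5 6 (by decide +kernel) g2_lt.1 (-1) _
    (neg_ne_zero.2 one_ne_zero) e3
  exact absurd this (by norm_num)

section fixed2

variable [CharP K 3] {e : ℕ} {σ : ↥(chevG2.group K) →* ↥(chevG2.group K)} (hσ : IsSig e σ)
  (hF : ∀ x : K, (x ^ e) ^ (3 * e) = x) (hadd : ∀ x y : K, (x + y) ^ e = x ^ e + y ^ e)
  (hodd : Odd e)
include hσ hF hadd hodd

/-- `N¹ = H¹ ∪ H¹ n₀` -/
theorem N1_cases (m : GL chevG2.Idx K) (hmN : m ∈ chevG2.monomialSubgroup K)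
    (hmG : m ∈ twistedG2 K e) :
    m ∈ chevG2.diagonalSubgroup K ∨ m * (n0 K)⁻¹ ∈ chevG2.diagonalSubgroup K := by
  obtain ⟨h, hh, hfix⟩ := twistedG2_fixed hσ hF hadd hodd m hmG
  have hmem : m ∈ chevG2.group K := hh ▸ h.2
  refine fix_mono hσ m hmN hmem 1 (Subgroup.one_mem _) ?_
  have : (⟨m, hmem⟩ : ↥(chevG2.group K)) = h := Subtype.ext hh.symm
  rw [this, hfix, hh, mul_one]

/-- `N¹/H¹` has order 2 -/
theorem N1_hom : ∃ φ : ↥(chevG2.monomialSubgroup K ⊓ twistedG2 K e) →* Multiplicative (ZMod 2),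
    Function.Surjective φ ∧ φ.ker = (chevG2.diagonalSubgroup K ⊓ twistedG2 K e).subgroupOf
      (chevG2.monomialSubgroup K ⊓ twistedG2 K e) := by
  classical
  have he : e ≠ 0 := by
    rintro rfl
    exact absurd hodd (by decide)
  let f : ↥(chevG2.monomialSubgroup K ⊓ twistedG2 K e) → Multiplicative (ZMod 2) := fun m =>
    if (m : GL chevG2.Idx K) ∈ chevG2.diagonalSubgroup K then 1 else Multiplicative.ofAdd 1
  have hnorm : ∀ m ∈ chevG2.monomialSubgroup K, ∀ h ∈ chevG2.diagonalSubgroup K,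
      m * h * m⁻¹ ∈ chevG2.diagonalSubgroup K := fun m hm h hh =>
    ((Subgroup.mem_set_normalizer_iff.1 (monomial_le_normalizer_diagonal chevG2 hG2 hm)) h).1 hh
  have hcase : ∀ m : ↥(chevG2.monomialSubgroup K ⊓ twistedG2 K e),
      (m : GL chevG2.Idx K) ∉ chevG2.diagonalSubgroup K →
      (m : GL chevG2.Idx K) * (n0 K)⁻¹ ∈ chevG2.diagonalSubgroup K := fun m hm =>
    (N1_cases hσ hF hadd hodd m m.2.1 m.2.2).resolve_left hm
  have hmul : ∀ a b, f (a * b) = f a * f b := by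
    intro a b
    by_cases ha : (a : GL chevG2.Idx K) ∈ chevG2.diagonalSubgroup K
    · by_cases hb : (b : GL chevG2.Idx K) ∈ chevG2.diagonalSubgroup K
      · have hab : ((a * b : ↥(chevG2.monomialSubgroup K ⊓ twistedG2 K e)) : GL chevG2.Idx K) ∈
            chevG2.diagonalSubgroup K := Subgroup.mul_mem _ ha hb
        simp only [f, if_pos ha, if_pos hb, if_pos hab, mul_one]
      · have hab : ((a * b : ↥(chevG2.monomialSubgroup K ⊓ twistedG2 K e)) : GL chevG2.Idx K) ∉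
            chevG2.diagonalSubgroup K := fun h => hb (by
          have := Subgroup.mul_mem _ (Subgroup.inv_mem _ ha) h
          rwa [Subgroup.coe_mul, inv_mul_cancel_left] at this)
        simp only [f, if_pos ha, if_neg hb, if_neg hab, one_mul]
    · by_cases hb : (b : GL chevG2.Idx K) ∈ chevG2.diagonalSubgroup K
      · have hab : ((a * b : ↥(chevG2.monomialSubgroup K ⊓ twistedG2 K e)) : GL chevG2.Idx K) ∉
            chevG2.diagonalSubgroup K := fun h => ha (by
          have := Subgroup.mul_mem _ h (Subgroup.inv_mem _ hb)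
          rwa [Subgroup.coe_mul, mul_inv_cancel_right] at this)
        simp only [f, if_neg ha, if_pos hb, if_neg hab, mul_one]
      · have hab : ((a * b : ↥(chevG2.monomialSubgroup K ⊓ twistedG2 K e)) : GL chevG2.Idx K) ∈
            chevG2.diagonalSubgroup K := by
          have h1 := hcase a ha
          have h2 := hcase b hb
          have e1 : (a : GL chevG2.Idx K) * (b : GL chevG2.Idx K) =
              (a * (n0 K)⁻¹) * (n0 K * (b * (n0 K)⁻¹) * (n0 K)⁻¹) * (n0 K * n0 K) := by group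
          rw [Subgroup.coe_mul, e1, n0_sq, mul_one]
          exact Subgroup.mul_mem _ h1 (hnorm _ n0_mono _ h2)
        simp only [f, if_neg ha, if_neg hb, if_pos hab]
        rfl
  refine ⟨MonoidHom.mk' f hmul, ?_, ?_⟩
  · intro y
    have hy : ∀ y : Multiplicative (ZMod 2), y = 1 ∨ y = Multiplicative.ofAdd 1 := by decide
    rcases hy y with rfl | rfl
    · refine ⟨1, ?_⟩
      show f 1 = 1
      simp only [f, Subgroup.coe_one, if_pos (Subgroup.one_mem _)]
    · refine ⟨⟨n0 K, n0_mono, n0_mem e he⟩, ?_⟩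
      show f _ = _
      simp only [f, if_neg n0_not_diag]
  · ext m
    rw [MonoidHom.mem_ker, Subgroup.mem_subgroupOf]
    show f m = 1 ↔ _
    constructor
    · intro h
      by_cases hm : (m : GL chevG2.Idx K) ∈ chevG2.diagonalSubgroup K
      · exact ⟨hm, m.2.2⟩
      · simp only [f, if_neg hm] at h
        exact absurd h (by decide)
    · intro h
      exact if_pos h.1

end fixed2

end Cfsg.Agent.Lib.Helper27.Ree
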