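import Mathlib

/-!
# Ree-type rank-one groups: relations and Bruhat decomposition (`Ok0`), basic consequences

Copy of the first part of `ReeOut` without the hypotheses `θne`, `syl`, `field` (so that it also
applies to `²G₂(3)`), plus the elements `sU u`, `sN`, `sD s` of `SL₂(F)`.
-/

set_option autoImplicit false
set_option linter.unusedSectionVars false

namespace Cfsg.Agent.Lib.Helper27.ReeCent

open scoped Pointwise

variable {F : Type*} [Field F] [Finite F] [CharP F 3] {G : Type*} [Group G] [Finite G]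

/-- the hypotheses: a Ree-type rank-one group (relations and Bruhat decomposition only) -/
structure Ok0 (θ : F →+* F) (T : F → F → F → G) (H : Fˣ → G) (w : G) : Prop where
  θθ : ∀ x, θ (θ x) = x ^ 3
  T_mul : ∀ t u v t' u' v', T t u v * T t' u' v' =
    T (t + t') (u + u' - t * θ t') (v + v' - t' * u + t * t' * θ t' - t ^ 2 * θ t')
  T_inj : ∀ t u v t' u' v', T t u v = T t' u' v' → t = t' ∧ u = u' ∧ v = v'
  H_mul : ∀ s s', H (s * s') = H s * H s'
  H_inj : ∀ s, H s = 1 → s = 1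
  HT : ∀ (s : Fˣ) (t u v : F),
    H s * T t u v = T (s * t) (θ s * s * u) (θ s * (s : F) ^ 2 * v) * H s
  w_sq : w * w = 1
  wH : ∀ s, ∃ s', w * H s * w = H s'
  cases : ∀ g : G, (∃ t u v s, g = T t u v * H s) ∨
    ∃ t u v t' u' v' s, g = T t u v * w * (T t' u' v' * H s)
  uniq : ∀ t u v t' u' v' s, T t u v * w * (T t' u' v' * H s) = w → t = 0 ∧ u = 0 ∧ v = 0

variable {θ : F →+* F} {T : F → F → F → G} {H : Fˣ → G} {w : G}

theorem T_congr {T : F → F → F → G} {a b c a' b' c' : F} (h1 : a = a') (h2 : b = b')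
    (h3 : c = c') : T a b c = T a' b' c' := by
  subst h1 h2 h3
  rfl

theorem three_eq : (3 : F) = 0 := by exact_mod_cast CharP.cast_eq_zero F 3

theorem eq_zero_of_eq_neg {x : F} (hx : x = -x) : x = 0 := by
  have h3 : (3 : F) = 0 := three_eq
  linear_combination (-1 : F) * hx + x * h3

namespace Ok0

variable (h : Ok0 θ T H w)
include h

theorem T_zero : T 0 0 0 = 1 := by
  have e : T 0 0 0 * T 0 0 0 = T 0 0 0 := by
    rw [h.T_mul]
    exact T_congr (by simp) (by simp) (by simp)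
  exact mul_left_cancel (e.trans (mul_one _).symm)

theorem T_split (t u v : F) : T t u v = T t 0 0 * T 0 u v := by
  rw [h.T_mul]
  exact T_congr (by simp) (by simp) (by simp)

theorem T0_mul (u v u' v' : F) : T 0 u v * T 0 u' v' = T 0 (u + u') (v + v') := by
  rw [h.T_mul]
  exact T_congr (by simp) (by simp) (by simp)

theorem T0_mul_T (a b t u v : F) : T 0 a b * T t u v = T t (a + u) (b + v - t * a) := by
  rw [h.T_mul]
  exact T_congr (by ring) (by ring) (by ring)

theorem T_mul_T0 (t u v a b : F) : T t u v * T 0 a b = T t (u + a) (v + b) := by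
  rw [h.T_mul]
  exact T_congr (by simp) (by simp) (by simp)

theorem T_inv (t u v : F) : ∃ u' v', (T t u v)⁻¹ = T (-t) u' v' := by
  refine ⟨-u + t * θ (-t), -v + (-t) * u - t * (-t) * θ (-t) + t ^ 2 * θ (-t), ?_⟩
  apply inv_eq_of_mul_eq_one_right
  rw [h.T_mul, ← h.T_zero]
  exact T_congr (by ring) (by ring) (by ring)

theorem T_cube (t u v : F) : T t u v * T t u v * T t u v = T 0 0 (-(t ^ 2 * θ t)) := by
  have h3 : (3 : F) = 0 := three_eq
  rw [h.T_mul, h.T_mul]
  exact T_congr (by linear_combination t * h3) (by linear_combination (u - t * θ t) * h3)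
    (by linear_combination (v - t * u) * h3)

theorem H_one : H 1 = 1 := by
  have := h.H_mul 1 1
  rw [mul_one] at this
  exact mul_left_cancel (this.symm.trans (mul_one _).symm)

theorem H_inv (s : Fˣ) : (H s)⁻¹ = H s⁻¹ := by
  apply inv_eq_of_mul_eq_one_right
  rw [← h.H_mul, mul_inv_cancel, h.H_one]

theorem H_injective : Function.Injective H := by
  intro s s' e
  have : H (s * s'⁻¹) = 1 := by
    rw [h.H_mul, ← h.H_inv, e, mul_inv_cancel]
  have := h.H_inj _ this
  exact mul_inv_eq_one.1 this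

theorem θ_inj : Function.Injective θ := θ.injective

theorem θ_fix_of_cube {d : F} (hd : d ^ 3 = d) : θ d = d := by
  have e : d * (d - 1) * (d + 1) = 0 := by linear_combination hd
  rcases mul_eq_zero.1 e with e1 | e1
  · rcases mul_eq_zero.1 e1 with e2 | e2
    · rw [e2, map_zero]
    · have : d = 1 := by linear_combination e2
      rw [this, map_one]
  · have : d = -1 := by linear_combination e1
    rw [this, map_neg, map_one]

/-- `c ↦ c + θ c` is onto -/
theorem θadd_surj (x : F) : ∃ c, c + θ c = x := by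
  have hinj : Function.Injective (fun c : F => c + θ c) := by
    intro c c' e
    have e' : c + θ c = c' + θ c' := e
    have hd : θ (c - c') = -(c - c') := by
      rw [map_sub]
      linear_combination e'
    have hd3 : (c - c') ^ 3 = c - c' := by
      rw [← h.θθ, hd, map_neg, hd]
      ring
    have := h.θ_fix_of_cube hd3
    rw [hd] at this
    have h0 := eq_zero_of_eq_neg this.symm
    linear_combination h0
  exact Finite.injective_iff_surjective.1 hinj x

theorem κ_eq_one {s : F} (hs : θ s * s ^ 2 = 1) : s = 1 := by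
  have hB : s ^ 3 * θ s ^ 2 = 1 := by
    have := congrArg θ hs
    rw [map_mul, h.θθ, map_pow, map_one] at this
    exact this
  linear_combination (-s) * hB + (θ s * s ^ 2 + 1) * hs

theorem κ_surj (k : F) : ∃ c : F, θ c * c ^ 2 = k := by
  have hinj : Function.Injective (fun c : F => θ c * c ^ 2) := by
    intro c c' e
    have e' : θ c * c ^ 2 = θ c' * c' ^ 2 := e
    by_cases hc' : c' = 0
    · rw [hc', map_zero, zero_mul] at e'
      rcases mul_eq_zero.1 e' with e1 | e1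
      · rw [hc']
        exact (map_eq_zero θ).1 e1
      · rw [hc']
        exact pow_eq_zero_iff (two_ne_zero) |>.1 e1
    · have hne : θ c' * c' ^ 2 ≠ 0 :=
        mul_ne_zero (fun e1 => hc' ((map_eq_zero θ).1 e1)) (pow_ne_zero 2 hc')
      have e2 : θ (c / c') * (c / c') ^ 2 = 1 := by
        rw [map_div₀, div_pow, div_mul_div_comm, e', div_self hne]
      have := h.κ_eq_one e2
      exact (div_eq_one_iff_eq hc').1 this
  exact Finite.injective_iff_surjective.1 hinj k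

theorem κ_surj_unit {k : F} (hk : k ≠ 0) : ∃ s : Fˣ, θ (s : F) * (s : F) ^ 2 = k := by
  obtain ⟨c, hc⟩ := h.κ_surj k
  have hc0 : c ≠ 0 := by
    rintro rfl
    rw [map_zero, zero_mul] at hc
    exact hk hc.symm
  exact ⟨Units.mk0 c hc0, hc⟩

/-- the unipotent subgroup -/
def Qs : Subgroup G where
  carrier := {g | ∃ t u v, g = T t u v}
  mul_mem' := by
    rintro x y ⟨t, u, v, rfl⟩ ⟨t', u', v', rfl⟩
    exact ⟨_, _, _, h.T_mul t u v t' u' v'⟩
  one_mem' := ⟨0, 0, 0, h.T_zero.symm⟩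
  inv_mem' := by
    rintro x ⟨t, u, v, rfl⟩
    obtain ⟨u', v', e⟩ := h.T_inv t u v
    exact ⟨_, _, _, e⟩

theorem mem_Qs (g : G) : g ∈ h.Qs ↔ ∃ t u v, g = T t u v := Iff.rfl

theorem T_mem (t u v : F) : T t u v ∈ h.Qs := ⟨t, u, v, rfl⟩

theorem H_conj_T (s : Fˣ) (t u v : F) :
    H s * T t u v * (H s)⁻¹ = T (s * t) (θ s * s * u) (θ s * (s : F) ^ 2 * v) := by
  rw [h.HT, mul_assoc, mul_inv_cancel, mul_one]

/-- the Borel subgroup -/
def Bs : Subgroup G where
  carrier := {g | ∃ t u v s, g = T t u v * H s}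
  mul_mem' := by
    rintro x y ⟨t, u, v, s, rfl⟩ ⟨t', u', v', s', rfl⟩
    have e : T t u v * H s * (T t' u' v' * H s') =
        T t u v * T (s * t') (θ s * s * u') (θ s * (s : F) ^ 2 * v') * H (s * s') := by
      rw [mul_assoc, ← mul_assoc (H s), h.HT, mul_assoc, ← h.H_mul, ← mul_assoc]
    rw [h.T_mul] at e
    exact ⟨_, _, _, _, e⟩
  one_mem' := ⟨0, 0, 0, 1, by rw [h.T_zero, h.H_one, mul_one]⟩
  inv_mem' := by
    rintro x ⟨t, u, v, s, rfl⟩
    obtain ⟨u', v', e⟩ := h.T_inv t u v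
    have e2 : (T t u v * H s)⁻¹ = H s⁻¹ * T (-t) u' v' := by
      rw [mul_inv_rev, e, h.H_inv]
    rw [h.HT] at e2
    exact ⟨_, _, _, _, e2⟩

theorem mem_Bs (g : G) : g ∈ h.Bs ↔ ∃ t u v s, g = T t u v * H s := Iff.rfl

theorem Qs_le_Bs : h.Qs ≤ h.Bs := by
  rintro x ⟨t, u, v, rfl⟩
  exact ⟨t, u, v, 1, by rw [h.H_one, mul_one]⟩

theorem H_mem (s : Fˣ) : H s ∈ h.Bs := ⟨0, 0, 0, s, by rw [h.T_zero, one_mul]⟩

theorem w_inv : w⁻¹ = w := inv_eq_of_mul_eq_one_right h.w_sq

/-- the Borel subgroup normalises the unipotent subgroup -/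
theorem conj_mem_Qs {x u : G} (hx : x ∈ h.Bs) (hu : u ∈ h.Qs) : x * u * x⁻¹ ∈ h.Qs := by
  obtain ⟨a, b, c, s, rfl⟩ := hx
  obtain ⟨d, e', f, rfl⟩ := hu
  have e : T a b c * H s * T d e' f * (T a b c * H s)⁻¹
      = T a b c * (H s * T d e' f * (H s)⁻¹) * (T a b c)⁻¹ := by group
  rw [e, h.H_conj_T]
  exact h.Qs.mul_mem (h.Qs.mul_mem (h.T_mem a b c) (h.T_mem _ _ _))
    (h.Qs.inv_mem (h.T_mem a b c))

theorem conj_mem_Qs_iff {x u : G} (hx : x ∈ h.Bs) : x * u * x⁻¹ ∈ h.Qs ↔ u ∈ h.Qs := by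
  constructor
  · intro hu
    have := h.conj_mem_Qs (h.Bs.inv_mem hx) hu
    have e : x⁻¹ * (x * u * x⁻¹) * x⁻¹⁻¹ = u := by group
    rwa [e] at this
  · exact h.conj_mem_Qs hx

/-- `w u w ∈ B` forces `u = 1` -/
theorem eq_one_of_wuw {u : G} (hu : u ∈ h.Qs) (hb : w * u * w ∈ h.Bs) : u = 1 := by
  obtain ⟨a, b, c, rfl⟩ := hu
  obtain ⟨d, e', f, s, hcd⟩ := h.Bs.inv_mem hb
  have e : T a b c * w * (T d e' f * H s) = w := by
    rw [← hcd]
    have : T a b c * w * (w * T a b c * w)⁻¹ = w⁻¹ := by group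
    rw [this, h.w_inv]
  obtain ⟨rfl, rfl, rfl⟩ := h.uniq a b c d e' f s e
  exact h.T_zero

theorem T1_ne_one : T 1 0 0 ≠ 1 := by
  intro e
  rw [← h.T_zero] at e
  exact one_ne_zero (h.T_inj _ _ _ _ _ _ e).1

/-- an element conjugating a non-identity element of `Q` into `Q` lies in `B` -/
theorem mem_Bs_of_conj {x u : G} (hu : u ∈ h.Qs) (hu1 : u ≠ 1) (hx : x * u * x⁻¹ ∈ h.Qs) :
    x ∈ h.Bs := by
  rcases h.cases x with ⟨a, b, c, s, rfl⟩ | ⟨a, b, c, d, e', f, s, rfl⟩
  · exact ⟨a, b, c, s, rfl⟩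
  · exfalso
    have hb : T d e' f * H s ∈ h.Bs := ⟨d, e', f, s, rfl⟩
    have hu2 : (T d e' f * H s) * u * (T d e' f * H s)⁻¹ ∈ h.Qs := h.conj_mem_Qs hb hu
    have e : w * ((T d e' f * H s) * u * (T d e' f * H s)⁻¹) * w
        = (T a b c)⁻¹ * (T a b c * w * (T d e' f * H s) * u *
          (T a b c * w * (T d e' f * H s))⁻¹) * T a b c := by
      have : w * ((T d e' f * H s) * u * (T d e' f * H s)⁻¹) * w
          = w * ((T d e' f * H s) * u * (T d e' f * H s)⁻¹) * w⁻¹ := by rw [h.w_inv]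
      rw [this]
      group
    have h3 : w * ((T d e' f * H s) * u * (T d e' f * H s)⁻¹) * w ∈ h.Bs := by
      rw [e]
      exact h.Qs_le_Bs (h.Qs.mul_mem (h.Qs.mul_mem (h.Qs.inv_mem (h.T_mem a b c)) hx)
        (h.T_mem a b c))
    have h4 := h.eq_one_of_wuw hu2 h3
    apply hu1
    have : u = (T d e' f * H s)⁻¹ * ((T d e' f * H s) * u * (T d e' f * H s)⁻¹) *
        (T d e' f * H s) := by group
    rw [this, h4]
    group

/-- `B ∩ wBw` is the torus -/
theorem exists_H_of_mem {x : G} (hx : x ∈ h.Bs) (hx' : w * x * w ∈ h.Bs) : ∃ s, x = H s := by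
  obtain ⟨a, b, c, s, rfl⟩ := hx
  obtain ⟨s', hs'⟩ := h.wH s
  have e : w * T a b c * w = w * (T a b c * H s) * w * (H s')⁻¹ := by
    rw [← hs']
    have : w * (T a b c * H s) * w * (w * H s * w)⁻¹ = w * T a b c * w⁻¹ := by group
    rw [this, h.w_inv]
  have h1 : w * T a b c * w ∈ h.Bs := by
    rw [e]
    exact h.Bs.mul_mem hx' (h.Bs.inv_mem (h.H_mem _))
  have h2 := h.eq_one_of_wuw (h.T_mem a b c) h1
  exact ⟨s, by rw [h2, one_mul]⟩

theorem wH' (s : Fˣ) : ∃ s', w * H s * w⁻¹ = H s' := by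
  rw [h.w_inv]
  exact h.wH s

theorem eq_one_of_wuw' {u : G} (hu : u ∈ h.Qs) (hb : w * u * w⁻¹ ∈ h.Bs) : u = 1 := by
  rw [h.w_inv] at hb
  exact h.eq_one_of_wuw hu hb

theorem exists_H_of_mem' {x : G} (hx : x ∈ h.Bs) (hx' : w * x * w⁻¹ ∈ h.Bs) : ∃ s, x = H s := by
  rw [h.w_inv] at hx'
  exact h.exists_H_of_mem hx hx'

end Ok0

/-- upper unitriangular element of `SL₂` -/
def sU {F : Type*} [Field F] (u : F) : Matrix.SpecialLinearGroup (Fin 2) F :=
  ⟨!![1, u; 0, 1], by simp [Matrix.det_fin_two_of]⟩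

/-- the Weyl element of `SL₂` -/
def sN {F : Type*} [Field F] : Matrix.SpecialLinearGroup (Fin 2) F :=
  ⟨!![0, 1; -1, 0], by simp [Matrix.det_fin_two_of]⟩

/-- diagonal element of `SL₂` -/
def sD {F : Type*} [Field F] (s : Fˣ) : Matrix.SpecialLinearGroup (Fin 2) F :=
  ⟨!![(s : F), 0; 0, ((s⁻¹ : Fˣ) : F)], by simp [Matrix.det_fin_two_of]⟩

end Cfsg.Agent.Lib.Helper27.ReeCent
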