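import Mathlib
import Cfsg.Agent.Lib.Helper27.ReeBN

/-!
# The product law of `U¹ = ²G₂ ∩ U` and the action of `H¹`

`R t u v := wGL (reeWordU e t u v)`.  Then (characteristic 3, `θ = (·)^e`, `(x^e)^(3e) = x`)
`R t u v * R t' u' v' = R (t+t') (u+u' - t t'^(3e)) (v+v' - t' u + t t' t'^(3e) - t² t'^(3e))`
and a torus element `x = torus d` with `d 6 = d 7 ^ (3e)` satisfies
`x * R t u v = R (d₆ t) (d₆ d₇³ u) (d₆² d₇³ v) * x`.
-/

set_option autoImplicit false

namespace Cfsg.Agent.Lib.Helper27.Ree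

open Cfsg.Lie Cfsg.Agent.Lib.Helper24 Matrix

variable {K : Type*} [Field K]

local notation "X" => xGL chevG2 hG2

theorem g2_ct78 : chevG2.commTerms 7 8 = [(9, -2, 1, 1), (10, -3, 2, 1), (11, 3, 1, 2)] := by
  decide +kernel

theorem g2_ct79 : chevG2.commTerms 7 9 = [(10, 3, 1, 1)] := by decide +kernel

theorem g2_ct610 : chevG2.commTerms 6 10 = [(11, 1, 1, 1)] := by decide +kernel

theorem g2_c9 : commuteChk chevG2 10 7 = true := by decide +kernel
theorem g2_c10 : commuteChk chevG2 11 7 = true := by decide +kernel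
theorem g2_c11 : commuteChk chevG2 8 6 = true := by decide +kernel
theorem g2_c12 : commuteChk chevG2 9 6 = true := by decide +kernel
theorem g2_c13 : commuteChk chevG2 11 6 = true := by decide +kernel

theorem g2_cw79 [CharP K 3] (t u : K) : chevG2.wordMat K (chevG2.commWord K 7 9 t u) = 1 := by
  unfold ChevalleyDatum.commWord
  rw [g2_ct79]
  have h3 : ((3 : ℤ) : K) = 0 := by
    have := CharP.cast_eq_zero K 3
    exact_mod_cast this
  apply wordMat_eq_one_of_zero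
  intro p hp
  simp only [List.map_cons, List.map_nil, List.mem_singleton] at hp
  rw [hp]
  show ((3 : ℤ) : K) * (-t) ^ 1 * u ^ 1 = 0
  rw [h3, zero_mul, zero_mul]

theorem comm97 [CharP K 3] (s t : K) : Commute (X 9 s) (X 7 t) := by
  show X 9 s * X 7 t = X 7 t * X 9 s
  apply Units.ext
  rw [Units.val_mul, Units.val_mul, xGL_val, xGL_val,
    comm_formula chevG2 hG2 7 9 g2_lt.2.1 g2_lt.2.2.2.1 (by decide) (by decide +kernel) t s,
    g2_cw79, Matrix.mul_one]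

theorem comm87 [CharP K 3] (c a : K) : X 8 c * X 7 a = X 7 a * (X 8 c * X 9 (-(a * c))) := by
  have h3 : (3 : K) = 0 := by exact_mod_cast CharP.cast_eq_zero K 3
  have hw : chevG2.commWord K 7 8 a c = [(9, -(a * c)), (10, 0), (11, 0)] := by
    unfold ChevalleyDatum.commWord
    rw [g2_ct78]
    have h : ∀ (x y z x' y' z' : K), x = x' → y = y' → z = z' →
        [((9 : ℕ), x), (10, y), (11, z)] = [(9, x'), (10, y'), (11, z')] := by
      rintro _ _ _ _ _ _ rfl rfl rfl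
      rfl
    exact h _ _ _ _ _ _ (by push_cast; linear_combination (a * c) * h3)
      (by push_cast; linear_combination (-(a ^ 2 * c)) * h3)
      (by push_cast; linear_combination (-(a * c ^ 2)) * h3)
  have h : X 8 c * X 7 a = X 7 a * X 8 c * (X 9 (-(a * c)) * (X 10 0 * X 11 0)) := by
    apply Units.ext
    simp only [Units.val_mul, xGL_val]
    rw [comm_formula chevG2 hG2 7 8 g2_lt.2.1 g2_lt.2.2.1 (by decide) (by decide +kernel) a c, hw]
    simp only [wmat_cons, wmat_nil, Matrix.mul_one]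
  rw [h, xGL_zero, xGL_zero, mul_one, mul_one, mul_assoc]

theorem comm106 (y t : K) : X 10 y * X 6 t = X 6 t * (X 10 y * X 11 (-(t * y))) := by
  have hw : chevG2.commWord K 6 10 t y = [(11, -(t * y))] := by
    unfold ChevalleyDatum.commWord
    rw [g2_ct610]
    have h : ∀ (x x' : K), x = x' → [((11 : ℕ), x)] = [(11, x')] := by
      rintro _ _ rfl
      rfl
    exact h _ _ (by push_cast; ring)
  have h : X 10 y * X 6 t = X 6 t * X 10 y * X 11 (-(t * y)) := by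
    apply Units.ext
    simp only [Units.val_mul, xGL_val]
    rw [comm_formula chevG2 hG2 6 10 g2_lt.1 g2_lt.2.2.2.2.1 (by decide) (by decide +kernel) t y,
      hw]
    simp only [wmat_cons, wmat_nil, Matrix.mul_one]
  rw [h, mul_assoc]

/-- the commuting part of `U` -/
noncomputable def Y4 (c d u v : K) : GL chevG2.Idx K := X 8 c * (X 9 d * (X 10 u * X 11 v))

theorem Y4_mul [CharP K 3] (c d u v c' d' u' v' : K) :
    Y4 c d u v * Y4 c' d' u' v' = Y4 (c + c') (d + d') (u + u') (v + v') := by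
  simp only [Y4, mul_assoc]
  exact y4_mul c d u v c' d' u' v'

theorem Y4_X7 [CharP K 3] (c d u v a : K) :
    Y4 c d u v * X 7 a = X 7 a * Y4 c (d - a * c) u v := by
  have h11 : X 11 v * X 7 a = X 7 a * X 11 v := commute_of_chk chevG2 hG2 11 7 g2_c10 v a
  have h10 : X 10 u * X 7 a = X 7 a * X 10 u := commute_of_chk chevG2 hG2 10 7 g2_c9 u a
  have h9 : X 9 d * X 7 a = X 7 a * X 9 d := comm97 d a
  have h8 := comm87 c a
  have e : d - a * c = -(a * c) + d := by ring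
  unfold Y4
  rw [e, xGL_add chevG2 hG2 9 g2_lt.2.2.2.1]
  calc X 8 c * (X 9 d * (X 10 u * X 11 v)) * X 7 a
      = X 8 c * (X 9 d * (X 10 u * (X 11 v * X 7 a))) := by simp only [mul_assoc]
    _ = X 8 c * (X 9 d * ((X 10 u * X 7 a) * X 11 v)) := by rw [h11]; simp only [mul_assoc]
    _ = X 8 c * ((X 9 d * X 7 a) * (X 10 u * X 11 v)) := by rw [h10]; simp only [mul_assoc]
    _ = (X 8 c * X 7 a) * (X 9 d * (X 10 u * X 11 v)) := by rw [h9]; simp only [mul_assoc]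
    _ = X 7 a * (X 8 c * (X 9 (-(a * c)) * X 9 d * (X 10 u * X 11 v))) := by
      rw [h8]; simp only [mul_assoc]

theorem Y4_X6 (c d u v t : K) : Y4 c d u v * X 6 t = X 6 t * Y4 c d u (v - t * u) := by
  have h11 : X 11 v * X 6 t = X 6 t * X 11 v := commute_of_chk chevG2 hG2 11 6 g2_c13 v t
  have h10 := comm106 u t
  have h9 : X 9 d * X 6 t = X 6 t * X 9 d := commute_of_chk chevG2 hG2 9 6 g2_c12 d t
  have h8 : X 8 c * X 6 t = X 6 t * X 8 c := commute_of_chk chevG2 hG2 8 6 g2_c11 c t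
  have e : v - t * u = -(t * u) + v := by ring
  unfold Y4
  rw [e, xGL_add chevG2 hG2 11 g2_lt.2.2.2.2.2]
  calc X 8 c * (X 9 d * (X 10 u * X 11 v)) * X 6 t
      = X 8 c * (X 9 d * (X 10 u * (X 11 v * X 6 t))) := by simp only [mul_assoc]
    _ = X 8 c * (X 9 d * ((X 10 u * X 6 t) * X 11 v)) := by rw [h11]; simp only [mul_assoc]
    _ = X 8 c * ((X 9 d * X 6 t) * (X 10 u * (X 11 (-(t * u)) * X 11 v))) := by
      rw [h10]; simp only [mul_assoc]
    _ = (X 8 c * X 6 t) * (X 9 d * (X 10 u * (X 11 (-(t * u)) * X 11 v))) := by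
      rw [h9]; simp only [mul_assoc]
    _ = X 6 t * (X 8 c * (X 9 d * (X 10 u * (X 11 (-(t * u)) * X 11 v)))) := by
      rw [h8]; simp only [mul_assoc]

theorem X6_X7 (t a : K) : X 6 t * X 7 a =
    X 7 a * (X 6 t * Y4 (a * t) (a ^ 2 * t) (-(a ^ 3 * t)) (-(a ^ 3 * t ^ 2))) := by
  have h := comm67 t a (1 : GL chevG2.Idx K)
  simp only [mul_one] at h
  unfold Y4
  exact h

theorem prod_nf [CharP K 3] (a t c d u v a' t' c' d' u' v' : K) :
    (X 7 a * (X 6 t * Y4 c d u v)) * (X 7 a' * (X 6 t' * Y4 c' d' u' v')) =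
      X 7 (a + a') * (X 6 (t + t') * Y4 (a' * t + c + c') (a' ^ 2 * t + (d - a' * c) + d')
        (-(a' ^ 3 * t) + u + u') (-(a' ^ 3 * t ^ 2) + v - t' * (-(a' ^ 3 * t) + u) + v')) := by
  calc (X 7 a * (X 6 t * Y4 c d u v)) * (X 7 a' * (X 6 t' * Y4 c' d' u' v'))
      = X 7 a * (X 6 t * (Y4 c d u v * X 7 a')) * (X 6 t' * Y4 c' d' u' v') := by
        simp only [mul_assoc]
    _ = X 7 a * ((X 6 t * X 7 a') * Y4 c (d - a' * c) u v) * (X 6 t' * Y4 c' d' u' v') := by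
        rw [Y4_X7]; simp only [mul_assoc]
    _ = (X 7 a * X 7 a') * (X 6 t * ((Y4 (a' * t) (a' ^ 2 * t) (-(a' ^ 3 * t))
          (-(a' ^ 3 * t ^ 2)) * Y4 c (d - a' * c) u v) * X 6 t')) * Y4 c' d' u' v' := by
        rw [X6_X7]; simp only [mul_assoc]
    _ = X 7 (a + a') * ((X 6 t * X 6 t') * (Y4 (a' * t + c) (a' ^ 2 * t + (d - a' * c))
          (-(a' ^ 3 * t) + u) (-(a' ^ 3 * t ^ 2) + v - t' * (-(a' ^ 3 * t) + u)) *
          Y4 c' d' u' v')) := by
        rw [Y4_mul, Y4_X6, ← xGL_add chevG2 hG2 7 g2_lt.2.1]; simp only [mul_assoc]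
    _ = _ := by rw [Y4_mul, ← xGL_add chevG2 hG2 6 g2_lt.1]

theorem x6_congr {a b c d e f a' b' c' d' e' f' : K} (h1 : a = a') (h2 : b = b') (h3 : c = c')
    (h4 : d = d') (h5 : e = e') (h6 : f = f') :
    X 7 a * (X 6 b * (X 8 c * (X 9 d * (X 10 e * X 11 f)))) =
      X 7 a' * (X 6 b' * (X 8 c' * (X 9 d' * (X 10 e' * X 11 f')))) := by
  subst h1 h2 h3 h4 h5 h6
  rfl

/-- the product law of `U¹` -/
theorem reeU_mul [CharP K 3] {e : ℕ} (hF : ∀ x : K, (x ^ e) ^ (3 * e) = x)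
    (hadd : ∀ x y : K, (x + y) ^ e = x ^ e + y ^ e)
    (hsub : ∀ x y : K, (x - y) ^ e = x ^ e - y ^ e) (t u v t' u' v' : K) :
    wGL chevG2 hG2 (reeWordU e t u v) * wGL chevG2 hG2 (reeWordU e t' u' v') =
      wGL chevG2 hG2 (reeWordU e (t + t') (u + u' - t * t' ^ (3 * e))
        (v + v' - t' * u + t * t' * t' ^ (3 * e) - t ^ 2 * t' ^ (3 * e))) := by
  have h3 : (3 : K) = 0 := by exact_mod_cast CharP.cast_eq_zero K 3
  have hF' : ∀ x : K, (x ^ (3 * e)) ^ e = x := fun x => by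
    rw [← pow_mul, mul_comm, pow_mul]; exact hF x
  have p1 : t ^ (e + 1) = t ^ e * t := pow_succ t e
  have p2 : t' ^ (e + 1) = t' ^ e * t' := pow_succ t' e
  have p3 : (t + t') ^ (e + 1) = (t ^ e + t' ^ e) * (t + t') := by rw [pow_succ, hadd]
  have p4 : t ^ (2 * e + 1) = (t ^ e) ^ 2 * t := by rw [pow_succ, pow_mul']
  have p5 : t' ^ (2 * e + 1) = (t' ^ e) ^ 2 * t' := by rw [pow_succ, pow_mul']
  have p6 : (t + t') ^ (2 * e + 1) = (t ^ e + t' ^ e) ^ 2 * (t + t') := by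
    rw [pow_succ, pow_mul', hadd]
  have p7 : (u + u' - t * t' ^ (3 * e)) ^ e = u ^ e + u' ^ e - t ^ e * t' := by
    rw [hsub, hadd, mul_pow, hF']
  have p8 : (v + v' - t' * u + t * t' * t' ^ (3 * e) - t ^ 2 * t' ^ (3 * e)) ^ e =
      v ^ e + v' ^ e - t' ^ e * u ^ e + t ^ e * t' ^ e * t' - (t ^ e) ^ 2 * t' := by
    rw [hsub, hadd, hsub, hadd]
    simp only [mul_pow, hF']
    rw [pow_right_comm t 2 e]
  have p9 : (t' ^ e) ^ 3 = t' ^ (3 * e) := by rw [← pow_mul, mul_comm]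
  rw [reeU_val, reeU_val, reeU_val]
  have h := prod_nf (t ^ e) t (t ^ (e + 1) + u ^ e) (t ^ (2 * e + 1) + v ^ e) u v (t' ^ e) t'
    (t' ^ (e + 1) + u' ^ e) (t' ^ (2 * e + 1) + v' ^ e) u' v'
  unfold Y4 at h
  rw [h]
  refine x6_congr (hadd t t').symm rfl ?_ ?_ ?_ ?_
  · rw [p1, p2, p3, p7]; ring
  · rw [p4, p5, p6, p8, p1]
    linear_combination (-(t ^ e * t' ^ e * t) - t ^ e * t' ^ e * t') * h3
  · rw [p9]; ring
  · rw [p9]; ring

theorem l6_congr {a b c d e f a' b' c' d' e' f' : K} (h1 : a = a') (h2 : b = b') (h3 : c = c')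
    (h4 : d = d') (h5 : e = e') (h6 : f = f') :
    [((7 : ℕ), a), (6, b), (8, c), (9, d), (10, e), (11, f)] =
      [(7, a'), (6, b'), (8, c'), (9, d'), (10, e'), (11, f')] := by
  subst h1 h2 h3 h4 h5 h6
  rfl

/-- the action of a torus element with `d₆ = d₇^(3e)` on `U¹` -/
theorem reeU_conj_torus {e : ℕ} (x : GL chevG2.Idx K) (d : ℕ → K) (hd : MulGraded chevG2 d)
    (hx : (x : Matrix chevG2.Idx chevG2.Idx K) = torus K chevG2 d) (h6 : d 6 = d 7 ^ (3 * e))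
    (hF : ∀ x : K, (x ^ e) ^ (3 * e) = x) (t u v : K) :
    x * wGL chevG2 hG2 (reeWordU e t u v) =
      wGL chevG2 hG2 (reeWordU e (d 6 * t) (d 6 * d 7 ^ 3 * u) (d 6 ^ 2 * d 7 ^ 3 * v)) * x := by
  have hF' : ∀ x : K, (x ^ (3 * e)) ^ e = x := fun x => by
    rw [← pow_mul, mul_comm, pow_mul]; exact hF x
  have ha : d 6 ^ e = d 7 := by rw [h6, hF']
  have c8 : d 8 = d 6 * d 7 ^ 1 := hd.chain 7 g2_lt.2.1 6 _ g2_cent_b
  have c9 : d 9 = d 6 * d 7 ^ 2 := hd.chain 7 g2_lt.2.1 6 _ g2_cent_c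
  have c10 : d 10 = d 6 * d 7 ^ 3 := hd.chain 7 g2_lt.2.1 6 _ g2_cent_d
  have c11 : d 11 = d 10 * d 6 ^ 1 := hd.chain 6 g2_lt.1 10 _ g2_cent_e
  have q1 : (d 6 * t) ^ (e + 1) = d 7 * d 6 * t ^ (e + 1) := by
    rw [mul_pow, pow_succ (d 6) e, ha]
  have q2 : (d 6 * d 7 ^ 3 * u) ^ e = d 7 * d 6 * u ^ e := by
    rw [mul_pow, mul_pow, ha, ← pow_mul, ← h6]
  have q3 : (d 6 * t) ^ (2 * e + 1) = d 7 ^ 2 * d 6 * t ^ (2 * e + 1) := by
    rw [mul_pow, pow_succ (d 6) (2 * e), pow_mul' (d 6) 2 e, ha]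
  have q4 : (d 6 ^ 2 * d 7 ^ 3 * v) ^ e = d 7 ^ 2 * d 6 * v ^ e := by
    rw [mul_pow, mul_pow, pow_right_comm (d 6) 2 e, ha, ← pow_mul, ← h6]
  apply Units.ext
  rw [Units.val_mul, Units.val_mul, wGL_val, wGL_val, hx,
    torus_mul_wordMat chevG2 d hd _ (by
      intro p hp
      simp only [reeWordU, g2a, g2b, g2ab, g2aab, g2aaab, g2aaabb, List.mem_cons,
        List.not_mem_nil, or_false] at hp
      rcases hp with rfl | rfl | rfl | rfl | rfl | rfl
      · exact g2_lt.2.1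
      · exact g2_lt.1
      · exact g2_lt.2.2.1
      · exact g2_lt.2.2.2.1
      · exact g2_lt.2.2.2.2.1
      · exact g2_lt.2.2.2.2.2)]
  congr 2
  simp only [reeWordU, g2a, g2b, g2ab, g2aab, g2aaab, g2aaabb, List.map_cons, List.map_nil]
  refine l6_congr ?_ rfl ?_ ?_ ?_ ?_
  · rw [mul_pow, ha]
  · rw [c8, q1, q2]; ring
  · rw [c9, q3, q4]; ring
  · rw [c10]
  · rw [c11, c10]; ring

end Cfsg.Agent.Lib.Helper27.Ree
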