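import Mathlib
import Cfsg.Agent.Lib.Helper27.ReeMul

/-!
# `²G₂(q)` is generated by two elements (`q = 3^(2m+1)`, `m ≥ 1`)

`a` a generator of the cyclic group `H¹`, `b = n₀ * R 1 0 0`.
-/

set_option autoImplicit false

namespace Cfsg.Agent.Lib.Helper27.Ree

open Cfsg.Lie Cfsg.Agent.Lib.Helper24 Matrix

variable {K : Type*} [Field K]

/-- the generating words of `U¹` -/
noncomputable def R (e : ℕ) (t u v : K) : GL chevG2.Idx K := wGL chevG2 hG2 (reeWordU e t u v)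

theorem R_congr {e : ℕ} {t u v t' u' v' : K} (h1 : t = t') (h2 : u = u') (h3 : v = v') :
    R e t u v = R e t' u' v' := by
  subst h1 h2 h3
  rfl

section gen

variable [CharP K 3] {e : ℕ} (hF : ∀ x : K, (x ^ e) ^ (3 * e) = x)
  (hadd : ∀ x y : K, (x + y) ^ e = x ^ e + y ^ e)
  (hsub : ∀ x y : K, (x - y) ^ e = x ^ e - y ^ e)
include hF hadd hsub

theorem R_mul (t u v t' u' v' : K) : R e t u v * R e t' u' v' =
    R e (t + t') (u + u' - t * t' ^ (3 * e))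
      (v + v' - t' * u + t * t' * t' ^ (3 * e) - t ^ 2 * t' ^ (3 * e)) :=
  reeU_mul hF hadd hsub t u v t' u' v'

theorem R_zero_mul (a b t u v : K) : R e 0 a b * R e t u v = R e t (a + u) (b + v - t * a) := by
  rw [R_mul hF hadd hsub]
  exact R_congr (by ring) (by ring) (by ring)

theorem R_zero : R e (0 : K) 0 0 = 1 := by
  have h := R_zero_mul hF hadd hsub 0 0 0 0 0
  have h' : R e (0 : K) 0 0 * R e 0 0 0 = R e 0 0 0 := by
    rw [h]
    exact R_congr rfl (by ring) (by ring)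
  exact mul_left_cancel (h'.trans (mul_one _).symm)

theorem R_inv (t u v : K) : ∃ u' v', (R e t u v)⁻¹ = R e (-t) u' v' := by
  refine ⟨-u + t * (-t) ^ (3 * e),
    -v + (-t) * u - t * (-t) * (-t) ^ (3 * e) + t ^ 2 * (-t) ^ (3 * e), ?_⟩
  apply inv_eq_of_mul_eq_one_right
  rw [R_mul hF hadd hsub, ← R_zero hF hadd hsub]
  exact R_congr (by ring) (by ring) (by ring)

theorem R_div (t u v u' v' : K) :
    R e t u v * (R e t u' v')⁻¹ = R e 0 (u - u') (v - v' + t * (u - u')) := by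
  rw [mul_inv_eq_iff_eq_mul, R_zero_mul hF hadd hsub]
  exact R_congr rfl (by ring) (by ring)

/-- a subgroup containing an element of `U¹` outside the Frattini subgroup and invariant under
`H¹` contains `U¹` -/
theorem gen_U (M : Subgroup (GL chevG2.Idx K)) (he : e ≠ 0) (hex : ∃ x : K, x ^ (3 * e) ≠ x)
    (hact : ∀ μ : K, μ ≠ 0 → ∀ t u v, R e t u v ∈ M →
      R e (μ ^ (3 * e) * t) (μ ^ (3 * e) * μ ^ 3 * u) ((μ ^ (3 * e)) ^ 2 * μ ^ 3 * v) ∈ M)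
    (t₀ u₀ v₀ : K) (ht₀ : t₀ ≠ 0) (h₀ : R e t₀ u₀ v₀ ∈ M) : ∀ t u v, R e t u v ∈ M := by
  have h3 : (3 : K) = 0 := by exact_mod_cast CharP.cast_eq_zero K 3
  have hone : R e (0 : K) 0 0 ∈ M := by
    rw [R_zero hF hadd hsub]
    exact M.one_mem
  -- step 1: all `t`
  have S1 : ∀ t, ∃ u v, R e t u v ∈ M := by
    intro t
    by_cases ht : t = 0
    · exact ⟨0, 0, by rw [ht]; exact hone⟩
    · have hl : t / t₀ ≠ 0 := div_ne_zero ht ht₀
      have h1 := hact ((t / t₀) ^ e) (pow_ne_zero e hl) t₀ u₀ v₀ h₀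
      rw [hF, div_mul_cancel₀ t ht₀] at h1
      exact ⟨_, _, h1⟩
  -- step 2: a non-trivial `u`
  have S2 : ∃ u₁ v₁, u₁ ≠ 0 ∧ R e 0 u₁ v₁ ∈ M := by
    obtain ⟨x, hx⟩ := hex
    obtain ⟨ua, va, ha⟩ := S1 1
    obtain ⟨ub, vb, hb⟩ := S1 x
    have hab := R_mul hF hadd hsub 1 ua va x ub vb
    have hba := (R_mul hF hadd hsub x ub vb 1 ua va).trans
      (R_congr (add_comm x 1) rfl rfl)
    have hmem : (R e 1 ua va * R e x ub vb) * (R e x ub vb * R e 1 ua va)⁻¹ ∈ M :=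
      M.mul_mem (M.mul_mem ha hb) (M.inv_mem (M.mul_mem hb ha))
    rw [hab, hba, R_div hF hadd hsub] at hmem
    refine ⟨_, _, ?_, hmem⟩
    intro h0
    apply hx
    rw [one_pow] at h0
    linear_combination (-1 : K) * h0
  -- step 3: all `u`
  have Psub : ∀ u u', (∃ v, R e 0 u v ∈ M) → (∃ v, R e 0 u' v ∈ M) →
      ∃ v, R e 0 (u - u') v ∈ M := by
    rintro u u' ⟨v, h⟩ ⟨v', h'⟩
    have := M.mul_mem h (M.inv_mem h')
    rw [R_div hF hadd hsub] at this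
    exact ⟨_, this⟩
  have hq : ∀ y : K, y ≠ 0 → y ^ (e * (3 * e) - 1) = 1 := by
    intro y hy
    have h1 : y ^ (e * (3 * e) - 1) * y = y := by
      rw [← pow_succ, Nat.sub_add_cancel (Nat.mul_pos (Nat.pos_of_ne_zero he)
        (Nat.mul_pos (by norm_num) (Nat.pos_of_ne_zero he))), pow_mul]
      exact hF y
    exact mul_right_cancel₀ hy (h1.trans (one_mul y).symm)
  have Psq : ∀ l u : K, (∃ v, R e 0 u v ∈ M) → ∃ v, R e 0 (l ^ 2 * u) v ∈ M := by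
    rintro l u ⟨v, h⟩
    by_cases hl : l = 0
    · refine ⟨0, ?_⟩
      rw [hl, zero_pow two_ne_zero, zero_mul]
      exact hone
    · obtain ⟨k, rfl⟩ := Nat.exists_eq_succ_of_ne_zero he
      have hli : l⁻¹ ≠ 0 := inv_ne_zero hl
      have h1 := hact (l⁻¹ ^ k) (pow_ne_zero k hli) 0 u v h
      have hN : (l⁻¹ ^ k) ^ (3 * (k + 1)) * (l⁻¹ ^ k) ^ 3 = l ^ 2 := by
        have e1 : (l⁻¹ ^ k) ^ (3 * (k + 1)) * (l⁻¹ ^ k) ^ 3 * l⁻¹ ^ 2 = 1 := by
          rw [← pow_mul, ← pow_mul, ← pow_add, ← pow_add, ← hq l⁻¹ hli]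
          congr 1
          have : 1 ≤ (k + 1) * (3 * (k + 1)) := Nat.mul_pos (Nat.succ_pos k)
            (Nat.mul_pos (by norm_num) (Nat.succ_pos k))
          zify [this]
          ring
        have e2 : l⁻¹ ^ 2 * l ^ 2 = 1 := by
          rw [← mul_pow, inv_mul_cancel₀ hl, one_pow]
        calc (l⁻¹ ^ k) ^ (3 * (k + 1)) * (l⁻¹ ^ k) ^ 3
            = (l⁻¹ ^ k) ^ (3 * (k + 1)) * (l⁻¹ ^ k) ^ 3 * (l⁻¹ ^ 2 * l ^ 2) := by
              rw [e2, mul_one]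
          _ = ((l⁻¹ ^ k) ^ (3 * (k + 1)) * (l⁻¹ ^ k) ^ 3 * l⁻¹ ^ 2) * l ^ 2 := by ring
          _ = l ^ 2 := by rw [e1, one_mul]
      rw [hN, mul_zero] at h1
      exact ⟨_, h1⟩
  have S3 : ∀ u, ∃ v, R e 0 u v ∈ M := by
    intro u
    obtain ⟨u₁, v₁, hu₁, h₁⟩ := S2
    have h := Psub _ _ (Psq (u / u₁ + 1) u₁ ⟨v₁, h₁⟩) (Psq (u / u₁ - 1) u₁ ⟨v₁, h₁⟩)
    have e1 : (u / u₁ + 1) ^ 2 * u₁ - (u / u₁ - 1) ^ 2 * u₁ = u := by
      have : u / u₁ * u₁ = u := div_mul_cancel₀ u hu₁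
      linear_combination this + (u / u₁ * u₁) * h3
    rw [e1] at h
    exact h
  -- step 4: all `v`
  have S4 : ∀ w, R e 0 0 w ∈ M := by
    intro w
    obtain ⟨ua, va, ha⟩ := S1 1
    obtain ⟨vb, hb⟩ := S3 w
    have hab : R e 1 ua va * R e 0 w vb = R e 1 (ua + w) (va + vb) := by
      rw [R_mul hF hadd hsub]
      exact R_congr (by ring) (by rw [zero_pow (by omega : 3 * e ≠ 0)]; ring)
        (by rw [zero_pow (by omega : 3 * e ≠ 0)]; ring)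
    have hba := R_zero_mul hF hadd hsub w vb 1 ua va
    have hmem : (R e 1 ua va * R e 0 w vb) * (R e 0 w vb * R e 1 ua va)⁻¹ ∈ M :=
      M.mul_mem (M.mul_mem ha hb) (M.inv_mem (M.mul_mem hb ha))
    rw [hab, hba, R_div hF hadd hsub] at hmem
    convert hmem using 1
    exact R_congr rfl (by ring) (by ring)
  have S5 : ∀ u v, R e 0 u v ∈ M := by
    intro u v
    obtain ⟨v', h'⟩ := S3 u
    have := M.mul_mem (S4 (v - v')) h'
    rw [R_zero_mul hF hadd hsub] at this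
    convert this using 1
    exact R_congr rfl (by ring) (by ring)
  intro t u v
  obtain ⟨u', v', h'⟩ := S1 t
  have := M.mul_mem (S5 (u - u') (v - v' + t * (u - u'))) h'
  rw [R_zero_mul hF hadd hsub] at this
  convert this using 1
  exact R_congr rfl (by ring) (by ring)

end gen

section main

variable [CharP K 3] {e : ℕ} {σ : ↥(chevG2.group K) →* ↥(chevG2.group K)} (hσ : IsSig e σ)
  (hF : ∀ x : K, (x ^ e) ^ (3 * e) = x) (hadd : ∀ x y : K, (x + y) ^ e = x ^ e + y ^ e)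
  (hsub : ∀ x y : K, (x - y) ^ e = x ^ e - y ^ e) (hodd : Odd e)
include hσ hF hadd hsub hodd

theorem two_gen_aux (hex : ∃ x : K, x ^ (3 * e) ≠ x)
    (hsurj : ∀ μ : K, μ ≠ 0 → ∃ h ∈ chevG2.diagonalSubgroup K ⊓ twistedG2 K e,
      dEnt chevG2 h 7 = μ)
    (a : GL chevG2.Idx K)
    (ha : ∀ h ∈ chevG2.diagonalSubgroup K ⊓ twistedG2 K e, h ∈ Subgroup.zpowers a) :
    twistedG2 K e ≤ Subgroup.closure {a, n0 K * R e 1 0 0} := by
  have h3 : (3 : K) = 0 := by exact_mod_cast CharP.cast_eq_zero K 3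
  have he : e ≠ 0 := by
    rintro rfl
    exact absurd hodd (by decide)
  have haL : a ∈ Subgroup.closure {a, n0 K * R e 1 0 0} :=
    Subgroup.subset_closure (Set.mem_insert _ _)
  have hbL : n0 K * R e 1 0 0 ∈ Subgroup.closure {a, n0 K * R e 1 0 0} :=
    Subgroup.subset_closure (Set.mem_insert_of_mem _ rfl)
  generalize Subgroup.closure {a, n0 K * R e 1 0 0} = L at haL hbL ⊢
  have hHL : ∀ h ∈ chevG2.diagonalSubgroup K ⊓ twistedG2 K e, h ∈ L := fun h hh =>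
    (Subgroup.zpowers_le.2 haL) (ha h hh)
  have hn0G : n0 K ∈ twistedG2 K e := n0_mem e he
  have hnH : ∀ h ∈ chevG2.diagonalSubgroup K ⊓ twistedG2 K e,
      n0 K * h * (n0 K)⁻¹ ∈ chevG2.diagonalSubgroup K ⊓ twistedG2 K e := fun h hh =>
    ⟨((Subgroup.mem_set_normalizer_iff.1
      (monomial_le_normalizer_diagonal chevG2 hG2 n0_mono)) h).1 hh.1,
      Subgroup.mul_mem _ (Subgroup.mul_mem _ hn0G hh.2) (Subgroup.inv_mem _ hn0G)⟩
  let M : Subgroup (GL chevG2.Idx K) := L.comap (MulAut.conj (n0 K)).toMonoidHom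
  have hM : ∀ g, g ∈ M ↔ n0 K * g * (n0 K)⁻¹ ∈ L := fun g => Iff.rfl
  have hMH : ∀ h ∈ chevG2.diagonalSubgroup K ⊓ twistedG2 K e, ∀ g ∈ M, h * g * h⁻¹ ∈ M := by
    intro h hh g hg
    rw [hM] at hg ⊢
    have e1 : n0 K * (h * g * h⁻¹) * (n0 K)⁻¹ =
        (n0 K * h * (n0 K)⁻¹) * (n0 K * g * (n0 K)⁻¹) * (n0 K * h * (n0 K)⁻¹)⁻¹ := by group
    rw [e1]
    exact L.mul_mem (L.mul_mem (hHL _ (hnH h hh)) hg) (L.inv_mem (hHL _ (hnH h hh)))
  have hact : ∀ μ : K, μ ≠ 0 → ∀ t u v, R e t u v ∈ M →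
      R e (μ ^ (3 * e) * t) (μ ^ (3 * e) * μ ^ 3 * u) ((μ ^ (3 * e)) ^ 2 * μ ^ 3 * v) ∈ M := by
    intro μ hμ t u v hg
    obtain ⟨h, hh, hd7⟩ := hsurj μ hμ
    obtain ⟨d, hd, hx, h6⟩ := H1_char hσ hF hadd hodd h hh.1 hh.2
    have h7 : d 7 = μ := by rw [← hd7, dEnt_torus chevG2 h d hx 7 g2_lt.2.1]
    have hc := reeU_conj_torus h d hd hx h6 hF t u v
    have e2 : h * R e t u v * h⁻¹ =
        R e (d 6 * t) (d 6 * d 7 ^ 3 * u) (d 6 ^ 2 * d 7 ^ 3 * v) :=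
      mul_inv_eq_iff_eq_mul.2 hc
    have := hMH h hh _ hg
    rw [e2, h6, h7] at this
    exact this
  -- the seed element
  obtain ⟨h₁, hh₁, hd₁⟩ := hsurj (-1) (neg_ne_zero.2 one_ne_zero)
  obtain ⟨d, hd, hx, h6⟩ := H1_char hσ hF hadd hodd h₁ hh₁.1 hh₁.2
  have h7 : d 7 = -1 := by rw [← hd₁, dEnt_torus chevG2 h₁ d hx 7 g2_lt.2.1]
  have h6' : d 6 = -1 := by
    rw [h6, h7]
    exact Odd.neg_one_pow (Odd.mul (by decide) hodd)
  have hc := reeU_conj_torus h₁ d hd hx h6 hF 1 0 0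
  have hb1 : (n0 K * R e 1 0 0) * h₁ * (n0 K * R e 1 0 0)⁻¹ ∈ L :=
    L.mul_mem (L.mul_mem hbL (hHL h₁ hh₁)) (L.inv_mem hbL)
  have hc1 : R e 1 0 0 * h₁ * (R e 1 0 0)⁻¹ * h₁⁻¹ ∈ M := by
    rw [hM]
    have e1 : n0 K * (R e 1 0 0 * h₁ * (R e 1 0 0)⁻¹ * h₁⁻¹) * (n0 K)⁻¹ =
        ((n0 K * R e 1 0 0) * h₁ * (n0 K * R e 1 0 0)⁻¹) * (n0 K * h₁ * (n0 K)⁻¹)⁻¹ := by group
    rw [e1]
    exact L.mul_mem hb1 (L.inv_mem (hHL _ (hnH h₁ hh₁)))
  have e3 : h₁ * R e 1 0 0 * h₁⁻¹ = R e (-1) 0 0 := by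
    rw [mul_inv_eq_iff_eq_mul]
    have e4 : R e (-1 : K) 0 0 = R e (d 6 * 1) (d 6 * d 7 ^ 3 * 0) (d 6 ^ 2 * d 7 ^ 3 * 0) :=
      R_congr (by rw [h6', mul_one]) (by ring) (by ring)
    rw [e4]
    exact hc
  obtain ⟨u', v', hinv⟩ := R_inv hF hadd hsub (-1 : K) 0 0
  have e5 : R e 1 0 0 * h₁ * (R e 1 0 0)⁻¹ * h₁⁻¹ = R e 1 0 0 * (h₁ * R e 1 0 0 * h₁⁻¹)⁻¹ := by
    group
  rw [e5, e3, hinv, R_mul hF hadd hsub] at hc1
  have ht0 : (1 + - -1 : K) ≠ 0 := by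
    intro h
    have : (1 : K) = 0 := by linear_combination h3 - h
    exact one_ne_zero this
  have hall := gen_U hF hadd hsub M he hex hact _ _ _ ht0 hc1
  have hn0L : n0 K ∈ L := by
    have h1 := (hM _).1 (hall 1 0 0)
    have e6 : n0 K = (n0 K * R e 1 0 0 * (n0 K)⁻¹)⁻¹ * (n0 K * R e 1 0 0) := by group
    rw [e6]
    exact L.mul_mem (L.inv_mem h1) hbL
  unfold twistedG2 ChevalleyDatum.genSubgroup
  rw [Subgroup.closure_le]
  rintro g ⟨w, hw, hg⟩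
  have eg : g = wGL chevG2 hG2 w := Units.ext (by rw [hg, wGL_val])
  obtain ⟨t, u, v, rfl | rfl⟩ := hw
  · have h1 := (hM _).1 (hall t u v)
    have e7 : g = (n0 K)⁻¹ * (n0 K * R e t u v * (n0 K)⁻¹) * n0 K := by
      rw [eg]
      show R e t u v = _
      group
    rw [e7]
    exact L.mul_mem (L.mul_mem (L.inv_mem hn0L) h1) hn0L
  · rw [eg, reeV_conj]
    exact (hM _).1 (hall t u v)

end main

/-- `²G₂(3^(2m+1))`, `m ≥ 1`, is generated by two elements -/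
theorem two_generated [Fintype K] (m : ℕ) (hm : 1 ≤ m) (hK : Fintype.card K = 3 ^ (2 * m + 1)) :
    ∃ a b : ↥(twistedG2 K (3 ^ m)),
      Subgroup.closure ({a, b} : Set ↥(twistedG2 K (3 ^ m))) = ⊤ := by
  classical
  have : CharP K 3 := charP_three (by omega) hK
  obtain ⟨σ, hσ⟩ := exists_sig m hK
  obtain ⟨hF, hadd, hsub, hodd⟩ := field_facts m hK
  have he : 3 ^ m ≠ 0 := pow_ne_zero _ (by norm_num)
  have hcyc := H1_cyclic hσ hF hadd hodd (K := K)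
  obtain ⟨g, hg⟩ := hcyc.exists_generator
  have hex : ∃ x : K, x ^ (3 * 3 ^ m) ≠ x := by
    obtain ⟨ζ, hζ⟩ := IsCyclic.exists_generator (α := Kˣ)
    have hord : orderOf ζ = Fintype.card K - 1 := by
      rw [orderOf_eq_card_of_forall_mem_zpowers hζ, Nat.card_eq_fintype_card, Fintype.card_units]
    by_contra hall
    simp only [not_exists, not_not] at hall
    have h1 : (ζ : K) ^ (3 * 3 ^ m) = ζ := hall ζ
    have hpos : 1 ≤ 3 * 3 ^ m := Nat.mul_pos (by norm_num) (Nat.pos_of_ne_zero he)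
    have h2 : ζ ^ (3 * 3 ^ m - 1) = 1 := by
      apply Units.ext
      rw [Units.val_pow_eq_pow_val, Units.val_one]
      have : (ζ : K) ^ (3 * 3 ^ m - 1) * ζ = ζ := by
        rw [← pow_succ, Nat.sub_add_cancel hpos, h1]
      exact mul_right_cancel₀ ζ.ne_zero (this.trans (one_mul _).symm)
    have h4 := orderOf_dvd_of_pow_eq_one h2
    rw [hord, hK] at h4
    have h5 : (3 : ℕ) ≤ 3 ^ m := by
      calc 3 = 3 ^ 1 := by norm_num
        _ ≤ 3 ^ m := Nat.pow_le_pow_right (by norm_num) hm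
    have h6 : 3 ^ (2 * m + 1) = 3 * 3 ^ m * 3 ^ m := by ring
    have h7 : 3 * 3 ^ m - 1 ≠ 0 := by omega
    have h8 := Nat.le_of_dvd (Nat.pos_of_ne_zero h7) h4
    rw [h6] at h8
    have h9 : 3 * 3 ^ m * 3 ≤ 3 * 3 ^ m * 3 ^ m := Nat.mul_le_mul_left _ h5
    omega
  have hsurj : ∀ μ : K, μ ≠ 0 → ∃ h ∈ chevG2.diagonalSubgroup K ⊓ twistedG2 K (3 ^ m),
      dEnt chevG2 h 7 = μ := by
    obtain ⟨ψ, hinj, hψ⟩ := exists_H1_hom hσ hF hadd hodd
    have hcard : Nat.card ↥(chevG2.diagonalSubgroup K ⊓ twistedG2 K (3 ^ m)) = Nat.card Kˣ := by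
      rw [H1_card m hK, Nat.card_eq_fintype_card, Fintype.card_units, hK]
    have hbij : Function.Bijective ψ := (Nat.bijective_iff_injective_and_card ψ).2 ⟨hinj, hcard⟩
    intro μ hμ
    obtain ⟨x, hx⟩ := hbij.2 (Units.mk0 μ hμ)
    exact ⟨x, x.2, by rw [← hψ, hx]; rfl⟩
  have hle := two_gen_aux hσ hF hadd hsub hodd hex hsurj (g : GL chevG2.Idx K) (by
    intro h hh
    obtain ⟨k, hk⟩ := Subgroup.mem_zpowers_iff.1 (hg ⟨h, hh⟩)
    refine Subgroup.mem_zpowers_iff.2 ⟨k, ?_⟩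
    have := congrArg (fun x : ↥(chevG2.diagonalSubgroup K ⊓ twistedG2 K (3 ^ m)) =>
      (x : GL chevG2.Idx K)) hk
    simpa using this)
  have haG : (g : GL chevG2.Idx K) ∈ twistedG2 K (3 ^ m) := g.2.2
  have hbG : n0 K * R (3 ^ m) 1 0 0 ∈ twistedG2 K (3 ^ m) :=
    Subgroup.mul_mem _ (n0_mem _ he) (reeU_mem _ 1 0 0)
  refine ⟨⟨g, haG⟩, ⟨_, hbG⟩, ?_⟩
  have hmap : (Subgroup.closure ({⟨g, haG⟩, ⟨_, hbG⟩} : Set ↥(twistedG2 K (3 ^ m)))).map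
      (twistedG2 K (3 ^ m)).subtype =
      Subgroup.closure {(g : GL chevG2.Idx K), n0 K * R (3 ^ m) 1 0 0} := by
    rw [MonoidHom.map_closure, Set.image_pair]
    rfl
  rw [eq_top_iff]
  rintro ⟨x, hx⟩ -
  have hx' := hle hx
  rw [← hmap] at hx'
  obtain ⟨y, hy, hyx⟩ := hx'
  have : y = ⟨x, hx⟩ := Subtype.ext hyx
  rw [← this]
  exact hy

end Cfsg.Agent.Lib.Helper27.Ree
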