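import Cfsg.Agent.Lib.Helper27.SzBridge
import Cfsg.Agent.Lib.Helper27.NilCover

/-!
# `Sz(q)` has no nilpotent minimal cover

The action of `Cfsg.Sz F m` on the points of the ovoid (`Ov F m`) satisfies `NilCover.Hyp`;
transferring along `SzBridge.szEquiv` gives the statement for `Cfsg.Lie.Sz F (2 ^ (m + 1))`.
-/

set_option autoImplicit false

namespace Cfsg.Agent.Lib.Helper27.SzCover

open Cfsg Matrix
open Cfsg.Agent.Lib.Helper8.Sz
open Cfsg.Agent.Lib.Helper27.SzBridge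
open Cfsg.Agent.Lib.Helper27.NilCover

variable {F : Type*} [Field F] [Fintype F] {m : ℕ}

/-- the points of the ovoid -/
def Ov (F : Type*) [Field F] (m : ℕ) : Type _ := ↥(suzukiOvoid F m)

instance ovAction : MulAction (Cfsg.Sz F m) (Ov F m) where
  smul g p := ⟨g.1 • p.1, smul_mem_of_mem_Sz g.2 p.2⟩
  one_smul _ := Subtype.ext (one_smul _ _)
  mul_smul _ _ _ := Subtype.ext (mul_smul _ _ _)

omit [Fintype F] in
theorem smul_val (g : Cfsg.Sz F m) (p : Ov F m) : (g • p).1 = g.1 • p.1 := rfl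

instance ovFinite : Finite (Ov F m) := by
  unfold Ov
  infer_instance

noncomputable instance ovFintype : Fintype (Ov F m) := Fintype.ofFinite _

theorem card_Ov (hF : Fintype.card F = 2 ^ (2 * m + 1)) :
    Fintype.card (Ov F m) = (2 ^ (2 * m + 1)) ^ 2 + 1 := by
  rw [Fintype.card_eq_nat_card]
  exact card_ovoid hF

omit [Fintype F] in
theorem Hg_pow (s : Fˣ) (n : ℕ) : Hg m (s ^ n) = Hg m s ^ n := by
  induction n with
  | zero => rw [pow_zero, pow_zero, Hg_one]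
  | succ n ih => rw [pow_succ, pow_succ, Hg_mul, ih]

theorem hyp (hm : 1 ≤ m) (hF : Fintype.card F = 2 ^ (2 * m + 1)) :
    Hyp (Cfsg.Sz F m) (Ov F m) where
  odd := by
    rw [card_Ov hF]
    exact Even.add_one (Nat.even_pow.2 ⟨Nat.even_pow.2 ⟨even_two, by omega⟩, by decide⟩)
  three := by
    rintro g ⟨a, ha⟩ ⟨b, hb⟩ ⟨c, hc⟩ hab hac hbc fa fb fc
    have h1 : a ≠ b := fun e => hab (Subtype.ext e)
    have h2 : b ≠ c := fun e => hbc (Subtype.ext e)
    have h3 : a ≠ c := fun e => hac (Subtype.ext e)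
    exact Subtype.ext (eq_one_of_fix_three hm hF g.2 ha hb hc h1 h2 h3 (congrArg Subtype.val fa)
      (congrArg Subtype.val fb) (congrArg Subtype.val fc))
  two := by
    rintro g ⟨a, ha⟩ ⟨b, hb⟩ hab fa fb
    have h1 : a ≠ b := fun e => hab (Subtype.ext e)
    have fa' : g.1 • a = a := congrArg Subtype.val fa
    have fb' : g.1 • b = b := congrArg Subtype.val fb
    obtain ⟨k, hk, k1, k2⟩ := exists_smul_pair hF ha hb h1
    have hmem : k * g.1 * k⁻¹ ∈ Cfsg.Sz F m :=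
      Subgroup.mul_mem _ (Subgroup.mul_mem _ hk g.2) (Subgroup.inv_mem _ hk)
    have e1 : (k * g.1 * k⁻¹) • Pinf F = Pinf F := by
      rw [mul_smul, mul_smul, ← k1, inv_smul_smul, fa']
    have e2 : (k * g.1 * k⁻¹) • Paff m (0 : F) 0 = Paff m (0 : F) 0 := by
      rw [mul_smul, mul_smul, ← k2, inv_smul_smul, fb']
    obtain ⟨s, hs⟩ := stab_two hm hF hmem e1 e2
    have hpow : g ^ (Fintype.card F - 1) = 1 := by
      apply Subtype.ext
      have h2 : (k * g.1 * k⁻¹) ^ (Fintype.card F - 1) = 1 := by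
        have hc : Fintype.card F - 1 = Nat.card Fˣ := by
          rw [Nat.card_units, Nat.card_eq_fintype_card]
        rw [hs, ← Hg_pow, hc, pow_card_eq_one', Hg_one]
      rw [conj_pow] at h2
      have h3 : g.1 ^ (Fintype.card F - 1) = k⁻¹ * (k * g.1 ^ (Fintype.card F - 1) * k⁻¹) * k := by
        group
      rw [Subgroup.coe_pow, h3, h2, mul_one, inv_mul_cancel]
      rfl
    have hdvd := orderOf_dvd_of_pow_eq_one hpow
    refine Odd.of_dvd_nat ?_ hdvd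
    rw [hF]
    have h4 : 2 ^ (2 * m + 1) = 2 * 2 ^ (2 * m) := pow_succ' 2 (2 * m)
    have h5 : 0 < 2 ^ (2 * m) := by positivity
    exact ⟨2 ^ (2 * m) - 1, by omega⟩
  ex_two := by
    obtain ⟨s, hs⟩ := exists_ne_one hF hm
    refine ⟨⟨Pinf F, Pinf_mem⟩, ⟨Paff m 0 0, Paff_mem 0 0⟩, ?_, HS hF s, ?_, ?_, ?_⟩
    · intro e
      exact Paff_ne_Pinf (m := m) (0 : F) 0 (congrArg Subtype.val e).symm
    · intro e
      apply hs
      apply Hg_inj (m := m)
      rw [Hg_one]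
      exact congrArg Subtype.val e
    · exact Subtype.ext (Hg_smul_Pinf s)
    · exact Subtype.ext (Hg_smul_zero hF s)
  ex_one := by
    rintro ⟨p, hp⟩
    obtain ⟨k, hk, k1⟩ := exists_smul_eq_Pinf hF hp
    have hT2 : TS hF (0 : F) 1 * TS hF 0 1 = 1 := by
      rw [TS_sq, th_zero, zero_mul, TS_zero]
    have hT1 : TS hF (0 : F) 1 ≠ 1 := by
      intro e
      rw [← TS_zero hF] at e
      have := (Tg_inj (congrArg Subtype.val e)).2
      exact one_ne_zero this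
    have hconj : ∀ K T : Cfsg.Sz F m, T * T = 1 → (K⁻¹ * T * K) ^ 2 = 1 := by
      intro K T hT
      rw [pow_two]
      have : K⁻¹ * T * K * (K⁻¹ * T * K) = K⁻¹ * (T * T) * K := by group
      rw [this, hT, mul_one, inv_mul_cancel]
    have hconj1 : ∀ K T : Cfsg.Sz F m, K⁻¹ * T * K = 1 → T = 1 := by
      intro K T hT
      have : T = K * (K⁻¹ * T * K) * K⁻¹ := by group
      rw [this, hT, mul_one, mul_inv_cancel]
    refine ⟨(⟨k, hk⟩ : Cfsg.Sz F m)⁻¹ * TS hF 0 1 * ⟨k, hk⟩, ?_, ?_⟩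
    · exact orderOf_eq_prime (hconj _ _ hT2) (fun e => hT1 (hconj1 _ _ e))
    · apply Subtype.ext
      show (k⁻¹ * Tg m 0 1 * k) • p = p
      rw [mul_smul, mul_smul, k1, Tg_smul_Pinf, inv_smul_eq_iff, k1]
  moved := by
    rintro ⟨p, hp⟩
    rcases (mem_ovoid_iff p).1 hp with rfl | ⟨x, y, rfl⟩
    · refine ⟨wS hF, ?_⟩
      intro e
      have e' : wg F • Pinf F = Pinf F := congrArg Subtype.val e
      rw [wg_smul_Pinf (m := m)] at e'
      exact Paff_ne_Pinf _ _ e'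
    · obtain ⟨k, hk, k1⟩ := exists_smul_eq_Pinf hF hp
      refine ⟨⟨k, hk⟩, ?_⟩
      intro e
      have e' : k • Paff m x y = Paff m x y := congrArg Subtype.val e
      rw [k1] at e'
      exact Paff_ne_Pinf _ _ e'.symm

/-- `Sz(q)`, in its star form, has no nilpotent minimal cover -/
theorem no_nilpotent_minimal_cover (hm : 1 ≤ m) (hF : Fintype.card F = 2 ^ (2 * m + 1)) :
    ¬ ∃ 𝓐 : Finset (Subgroup ↥(Cfsg.Lie.Sz F (2 ^ (m + 1)))),
      ((∀ A ∈ 𝓐, A ≠ ⊤) ∧ (∀ g : ↥(Cfsg.Lie.Sz F (2 ^ (m + 1))), ∃ A ∈ 𝓐, g ∈ A)) ∧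
      (∀ 𝓑 : Finset (Subgroup ↥(Cfsg.Lie.Sz F (2 ^ (m + 1)))),
        (∀ A ∈ 𝓑, A ≠ ⊤) ∧ (∀ g : ↥(Cfsg.Lie.Sz F (2 ^ (m + 1))), ∃ A ∈ 𝓑, g ∈ A) →
          𝓐.card ≤ 𝓑.card) ∧ (∀ A ∈ 𝓐, Group.IsNilpotent ↥A) := by
  let _ : MulAction ↥(Cfsg.Lie.Sz F (2 ^ (m + 1))) (Ov F m) :=
    MulAction.compHom (Ov F m) (szEquiv hF hm).symm.toMonoidHom
  exact ((hyp hm hF).of_equiv (szEquiv hF hm).symm).not_minimal

end Cfsg.Agent.Lib.Helper27.SzCover
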